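import Mathlib.GroupTheory.Sylow
import Mathlib.Algebra.Group.Subgroup.Pointwise

/-!
# Norms for coprime actions on abelian groups
-/

set_option autoImplicit false
set_option linter.unusedSectionVars false

namespace Cfsg.Agent.RegOrbit23

variable {L W : Type*} [Group L] [CommGroup W] [Finite W] [MulDistribMulAction L W]

/-- The fixed points of a set of operators. -/
def fixedSub (W : Type*) [CommGroup W] [MulDistribMulAction L W] (B : Set L) : Subgroup W where
  carrier := {w | ∀ b ∈ B, b • w = w}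
  one_mem' := fun b _ => smul_one b
  mul_mem' := fun {v w} hv hw b hb => by rw [smul_mul', hv b hb, hw b hb]
  inv_mem' := fun {v} hv b hb => by rw [smul_inv', hv b hb]

theorem mem_fixedSub {B : Set L} {w : W} : w ∈ fixedSub W B ↔ ∀ b ∈ B, b • w = w := Iff.rfl

/-- The product of a `⟨a⟩`-orbit is fixed by `a`. -/
theorem smul_prod_range {a : L} {p : ℕ} (ha : a ^ p = 1) (v : W) :
    a • (∏ i ∈ Finset.range p, a ^ i • v) = ∏ i ∈ Finset.range p, a ^ i • v := by
  rw [Finset.smul_prod']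
  have h1 := Finset.prod_range_succ (fun i => a ^ i • v) p
  have h2 := Finset.prod_range_succ' (fun i => a ^ i • v) p
  rw [h1, pow_zero, one_smul, ha, one_smul] at h2
  simp only [← mul_smul, ← pow_succ']
  exact (mul_right_cancel h2).symm

theorem eq_one_of_pow_eq_one {n : ℕ} (h : (Nat.card W).Coprime n) {v : W} (hv : v ^ n = 1) :
    v = 1 :=
  orderOf_eq_one_iff.mp (Nat.eq_one_of_dvd_coprimes h (orderOf_dvd_natCard v)
    (orderOf_dvd_of_pow_eq_one hv))

/-- Two commuting operators of exponent `p` that act without a common line of fixed-point-free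
operators: some translate has a fixed point. -/
theorem exists_fixed_of_rank_two {p : ℕ} [hp : Fact p.Prime] (hW : (Nat.card W).Coprime p) {a z : L}
    (hc : Commute a z) (ha : a ^ p = 1) (hz : z ^ p = 1) (Y : Subgroup W)
    (haY : ∀ v ∈ Y, a • v ∈ Y) (hzY : ∀ v ∈ Y, z • v ∈ Y)
    (hzf : ∀ v ∈ Y, z • v = v → v = 1) {v₀ : W} (hv₀ : v₀ ∈ Y) (hv₀1 : v₀ ≠ 1) :
    ∃ i < p, ∃ v ∈ Y, v ≠ 1 ∧ (a * z ^ i) • v = v := by
  by_contra hcon
  push Not at hcon
  have hpowmem : ∀ (b : L), (∀ v ∈ Y, b • v ∈ Y) → ∀ (i : ℕ) (v : W), v ∈ Y → b ^ i • v ∈ Y := by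
    intro b hb i
    induction i with
    | zero => intro v hv; rwa [pow_zero, one_smul]
    | succ i ih => intro v hv; rw [pow_succ', mul_smul]; exact hb _ (ih v hv)
  have hfree : ∀ i < p, ∏ j ∈ Finset.range p, (a * z ^ i) ^ j • v₀ = 1 := by
    intro i hi
    have hb : ∀ v ∈ Y, (a * z ^ i) • v ∈ Y := fun v hv => by
      rw [mul_smul]; exact haY _ (hpowmem z hzY i v hv)
    by_contra hne
    refine hcon i hi _ (Subgroup.prod_mem _ fun j _ => hpowmem _ hb j _ hv₀) hne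
      (smul_prod_range ?_ v₀)
    rw [(hc.pow_right i).mul_pow, ha, ← pow_mul, mul_comm, pow_mul, hz, one_pow, one_mul]
  have hzj : ∀ j < p, j ≠ 0 → ∏ i ∈ Finset.range p, (z ^ j) ^ i • v₀ = 1 := by
    intro j hj hj0
    refine hzf _ (Subgroup.prod_mem _ fun i _ => by rw [← pow_mul]; exact hpowmem z hzY _ _ hv₀) ?_
    have hfix := smul_prod_range (a := z ^ j) (p := p)
      (by rw [← pow_mul, mul_comm, pow_mul, hz, one_pow]) v₀
    set u := ∏ i ∈ Finset.range p, (z ^ j) ^ i • v₀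
    have hmem : z ^ j ∈ MulAction.stabilizer L u := hfix
    obtain ⟨m, hm⟩ := exists_pow_eq_self_of_coprime (x := z) (n := j) (by
      refine Nat.Coprime.coprime_dvd_right (orderOf_dvd_of_pow_eq_one hz) ?_
      exact (Nat.coprime_of_lt_prime hj0 hj hp.out).symm)
    show z • u = u
    rw [← hm]
    exact (MulAction.stabilizer L u).pow_mem hmem m
  have h1 : (1 : W) = ∏ i ∈ Finset.range p, ∏ j ∈ Finset.range p, (a * z ^ i) ^ j • v₀ :=
    (Finset.prod_eq_one fun i hi => hfree i (Finset.mem_range.mp hi)).symm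
  rw [Finset.prod_comm, Finset.prod_eq_single 0] at h1
  · simp only [pow_zero, one_smul, Finset.prod_const, Finset.card_range] at h1
    exact hv₀1 (eq_one_of_pow_eq_one hW h1.symm)
  · intro j hj hj0
    calc ∏ i ∈ Finset.range p, (a * z ^ i) ^ j • v₀
        = ∏ i ∈ Finset.range p, a ^ j • ((z ^ j) ^ i • v₀) := Finset.prod_congr rfl fun i _ => by
          rw [(hc.pow_right i).mul_pow, mul_smul, ← pow_mul, ← pow_mul, mul_comm i j]
      _ = a ^ j • ∏ i ∈ Finset.range p, (z ^ j) ^ i • v₀ := Finset.smul_prod'.symm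
      _ = 1 := by rw [hzj j (Finset.mem_range.mp hj) hj0, smul_one]
  · intro h
    exact absurd (Finset.mem_range.mpr hp.out.pos) h

/-- The norm over a subgroup of operators. -/
noncomputable def normOver [Finite L] (B : Subgroup L) : W →* W :=
  haveI := Fintype.ofFinite B
  { toFun := fun w => ∏ b : B, (b : L) • w
    map_one' := Finset.prod_eq_one fun b _ => smul_one _
    map_mul' := fun v w => by
      rw [← Finset.prod_mul_distrib]
      exact Finset.prod_congr rfl fun b _ => smul_mul' _ _ _ }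

theorem normOver_apply [Finite L] (B : Subgroup L) [Fintype B] (w : W) :
    normOver B w = ∏ b : B, (b : L) • w := by
  unfold normOver
  exact Finset.prod_congr (by ext; simp) fun _ _ => rfl

theorem normOver_mem_fixed [Finite L] (B : Subgroup L) (w : W) :
    normOver B w ∈ fixedSub W (B : Set L) := by
  intro c hc
  haveI := Fintype.ofFinite B
  rw [normOver_apply]
  rw [Finset.smul_prod']
  refine Fintype.prod_equiv (Equiv.mulLeft ⟨c, hc⟩) _ _ fun b => ?_
  rw [← mul_smul]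
  rfl

theorem normOver_of_fixed [Finite L] (B : Subgroup L) {w : W} (hw : w ∈ fixedSub W (B : Set L)) :
    normOver B w = w ^ Nat.card B := by
  haveI := Fintype.ofFinite B
  rw [normOver_apply]
  rw [Fintype.prod_congr _ (fun _ => w) (fun b : B => hw _ b.2), Finset.prod_const, Finset.card_univ,
    Nat.card_eq_fintype_card]

/-- A norm kills the vectors fixed by an operator normalizing `B` whose fixed points meet those of
`B` trivially. -/
theorem normOver_eq_one [Finite L] (B : Subgroup L) {c : L} (hcB : ∀ b ∈ B, c * b = b * c) {w : W}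
    (hw : c • w = w) (h : ∀ v ∈ fixedSub W (B : Set L), c • v = v → v = 1) :
    normOver B w = 1 := by
  refine h _ (normOver_mem_fixed B w) ?_
  haveI := Fintype.ofFinite B
  rw [normOver_apply]
  rw [Finset.smul_prod']
  refine Finset.prod_congr rfl fun b _ => ?_
  rw [← mul_smul, hcB b b.2, mul_smul, hw]

/-- A minimal nontrivial invariant subgroup under an abelian operator group. -/
theorem exists_minimal_invariant [Nontrivial W] (A : Set L) :
    ∃ Y : Subgroup W, Y ≠ ⊥ ∧ (∀ a ∈ A, ∀ v ∈ Y, a • v ∈ Y) ∧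
      ∀ Y' : Subgroup W, Y' ≤ Y → Y' ≠ ⊥ → (∀ a ∈ A, ∀ v ∈ Y', a • v ∈ Y') → Y' = Y := by
  obtain ⟨Y, hY⟩ := Set.Finite.exists_minimal
    (s := {Y : Subgroup W | Y ≠ ⊥ ∧ ∀ a ∈ A, ∀ v ∈ Y, a • v ∈ Y}) (Set.toFinite _)
    ⟨⊤, top_ne_bot, fun _ _ _ _ => Subgroup.mem_top _⟩
  exact ⟨Y, hY.1.1, hY.1.2, fun Y' hle h1 h2 => le_antisymm hle (hY.2 ⟨h1, h2⟩ hle)⟩

/-- An elementary abelian operator group with an element acting without fixed points: a hyperplane
missing that element has fixed points. -/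
theorem exists_hyperplane_fixed [Nontrivial W] {p : ℕ} [hp : Fact p.Prime]
    (hW : (Nat.card W).Coprime p) (A : Subgroup L) (hab : ∀ a ∈ A, ∀ b ∈ A, Commute a b)
    (hexp : ∀ a ∈ A, a ^ p = 1) (hA : ∀ v : W, (∀ a ∈ A, a • v = v) → v = 1) :
    ∃ z ∈ A, ∃ B : Subgroup L, B ≤ A ∧ z ∉ B ∧ fixedSub W (B : Set L) ≠ ⊥ ∧
      ∀ a ∈ A, ∃ i : ℕ, a * z ^ i ∈ B := by
  obtain ⟨Y, hY0, hYA, hYmin⟩ := exists_minimal_invariant (W := W) (A : Set L)
  obtain ⟨v₀, hv₀, hv₀1⟩ := (Subgroup.ne_bot_iff_exists_ne_one.mp hY0 : ∃ v : Y, v ≠ 1) |>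
    fun ⟨v, hv⟩ => (⟨(v : W), v.2, fun h => hv (Subtype.ext h)⟩ : ∃ v ∈ Y, v ≠ (1 : W))
  have htriv : ∀ c ∈ A, (∃ v ∈ Y, v ≠ 1 ∧ c • v = v) → ∀ v ∈ Y, c • v = v := by
    rintro c hc ⟨v, hv, hv1, hcv⟩ u hu
    have heq := hYmin (Y ⊓ fixedSub W {c}) inf_le_left
      (fun h => hv1 (Subgroup.mem_bot.mp (h ▸ ⟨hv, fun b hb => by rwa [Set.mem_singleton_iff.mp hb]⟩)))
      (fun a ha w hw => ⟨hYA a ha w hw.1, fun b hb => by
        rw [Set.mem_singleton_iff.mp hb, ← mul_smul, (hab c hc a ha).eq, mul_smul, hw.2 c rfl]⟩)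
    exact (heq.ge hu).2 c rfl
  obtain ⟨z, hz, hzmove⟩ : ∃ z ∈ A, z • v₀ ≠ v₀ := by
    by_contra h
    push Not at h
    exact hv₀1 (hA v₀ h)
  have hzf : ∀ v ∈ Y, z • v = v → v = 1 := by
    intro v hv hzv
    by_contra h
    exact hzmove (htriv z hz ⟨v, hv, h, hzv⟩ v₀ hv₀)
  refine ⟨z, hz,
    { carrier := {a | a ∈ A ∧ ∀ v ∈ Y, a • v = v}
      one_mem' := ⟨one_mem A, fun v _ => one_smul _ v⟩
      mul_mem' := fun {a b} ha hb => ⟨mul_mem ha.1 hb.1, fun v hv => by
        rw [mul_smul, hb.2 v hv, ha.2 v hv]⟩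
      inv_mem' := fun {a} ha => ⟨inv_mem ha.1, fun v hv => by
        rw [inv_smul_eq_iff, ha.2 v hv]⟩ }, fun a ha => ha.1, fun h => hzmove (h.2 v₀ hv₀),
    fun h => hv₀1 (Subgroup.mem_bot.mp (h ▸ (fun b hb => hb.2 v₀ hv₀))), fun a ha => ?_⟩
  obtain ⟨i, -, v, hv, hv1, hfix⟩ := exists_fixed_of_rank_two hW (hab a ha z hz) (hexp a ha)
    (hexp z hz) Y (hYA a ha) (hYA z hz) hzf hv₀ hv₀1
  exact ⟨i, mul_mem ha (pow_mem hz i), htriv _ (mul_mem ha (pow_mem hz i)) ⟨v, hv, hv1, hfix⟩⟩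

end Cfsg.Agent.RegOrbit23
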