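import Cfsg.Agent.Lib.RegOrbit23.Dual
import Cfsg.Agent.Lib.RegOrbit23.Norms
import Cfsg.Agent.Lib.PGroup23.NormalSq
import Cfsg.Agent.Lib.OddLocal.Rank

/-!
# A regular vector for an odd p-group of symplectic type
-/

set_option autoImplicit false
set_option linter.unusedSectionVars false

namespace Cfsg.Agent.RegOrbit23

variable {L W : Type*} [Group L] [Finite L] [CommGroup W] [Finite W] [MulDistribMulAction L W]
variable {p : ℕ} [hp : Fact p.Prime]

theorem mul_pow_choose {u v c : L} (hc : v * u * v⁻¹ = c * u) (hcu : Commute u c) (hcv : Commute v c)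
    (n : ℕ) : (u * v) ^ n = c ^ (n.choose 2) * (u ^ n * v ^ n) := by
  induction n with
  | zero => simp
  | succ n ih =>
    have h1 : v ^ n * u = c ^ n * u * v ^ n := by
      rw [← conj_pow_mul hc hcv n, inv_mul_cancel_right]
    rw [pow_succ, ih, Nat.choose_succ_succ' n 1, Nat.choose_one_right, add_comm n, pow_add c]
    calc c ^ n.choose 2 * (u ^ n * v ^ n) * (u * v)
        = c ^ n.choose 2 * (u ^ n * (v ^ n * u) * v) := by group
      _ = c ^ n.choose 2 * ((u ^ n * c ^ n) * u * (v ^ n * v)) := by rw [h1]; group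
      _ = c ^ n.choose 2 * c ^ n * (u ^ (n + 1) * v ^ (n + 1)) := by
        rw [(hcu.pow_pow n n).eq]; group

/-- Independent translates of the fixed points of `B`. -/
theorem card_fixed_pow_le {ι : Type*} [Fintype ι] (g : ι → L) (B : Subgroup L)
    (hB : (Nat.card W).Coprime (Nat.card B))
    (h : ∀ j k, j ≠ k → ∃ c : L, (∀ b ∈ B, c * b = b * c) ∧
      (∀ x ∈ fixedSub W (B : Set L), c • (((g j)⁻¹ * g k) • x) = ((g j)⁻¹ * g k) • x) ∧
      ∀ v ∈ fixedSub W (B : Set L), c • v = v → v = 1) :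
    Nat.card (fixedSub W (B : Set L)) ^ Fintype.card ι ≤ Nat.card W := by
  classical
  set X := fixedSub W (B : Set L)
  let Φ : (ι → X) →* W :=
    { toFun := fun f => ∏ k, g k • (f k : W)
      map_one' := Finset.prod_eq_one fun k _ => by simp
      map_mul' := fun f f' => by
        rw [← Finset.prod_mul_distrib]
        exact Finset.prod_congr rfl fun k _ => smul_mul' _ _ _ }
  have hinj : Function.Injective Φ := by
    refine (injective_iff_map_eq_one Φ).mpr fun f hf => funext fun j => Subtype.ext ?_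
    have h1 : (∏ k, ((g j)⁻¹ * g k) • (f k : W)) = 1 := by
      have h2 : (∏ k, g k • (f k : W)) = 1 := hf
      simp only [mul_smul]
      rw [← Finset.smul_prod', h2, smul_one]
    have h3 := congrArg (normOver B) h1
    rw [map_prod, map_one, Finset.prod_eq_single j, inv_mul_cancel, one_smul,
      normOver_of_fixed B (f j).2] at h3
    · exact eq_one_of_pow_eq_one hB h3
    · intro k _ hkj
      obtain ⟨c, hcB, hcx, hcf⟩ := h j k hkj.symm
      exact normOver_eq_one B hcB (hcx _ (f k).2) hcf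
    · simp
  calc Nat.card X ^ Fintype.card ι = Nat.card (ι → X) := by
        rw [Nat.card_fun, Nat.card_eq_fintype_card (α := ι)]
    _ ≤ Nat.card W := Nat.card_le_card_of_injective Φ hinj

theorem numeric {p n : ℕ} (hp3 : 3 ≤ p) (hn : 1 ≤ n) :
    p * (p ^ n * p ^ n - 1) < (p - 1) * (p + 1) ^ ((p - 1) * p ^ (n - 1)) := by
  obtain ⟨q, rfl⟩ : ∃ q, p = q + 3 := ⟨p - 3, by omega⟩
  rcases Nat.lt_or_ge n 2 with hn2 | hn2
  · obtain rfl : n = 1 := by omega
    simp only [pow_one, Nat.sub_self, pow_zero, mul_one]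
    rw [show q + 3 - 1 = q + 2 by omega, show q + 3 + 1 = q + 4 by omega, pow_succ, pow_succ]
    have h1 : (q + 3) * (q + 3) - 1 = (q + 2) * (q + 4) := by
      have : (q + 3) * (q + 3) = (q + 2) * (q + 4) + 1 := by ring
      omega
    rw [h1]
    rcases Nat.eq_zero_or_pos q with rfl | hq
    · norm_num
    have h2 : q + 4 ≤ (q + 4) ^ q := Nat.le_self_pow (by omega) _
    have h3 : (q + 3) * ((q + 2) * (q + 4)) < (q + 4) * ((q + 2) * (q + 4)) :=
      Nat.mul_lt_mul_of_pos_right (by omega) (by positivity)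
    refine h3.trans_le ?_
    calc (q + 4) * ((q + 2) * (q + 4)) ≤ (q + 4) ^ q * ((q + 4) * ((q + 2) * (q + 4))) :=
          Nat.le_mul_of_pos_left _ (by positivity)
      _ = _ := by ring
  · have hexp : 2 * n + 1 ≤ (q + 3 - 1) * (q + 3) ^ (n - 1) := by
      have key : ∀ m, 2 * (m + 2) + 1 ≤ 2 * 3 ^ (m + 1) := by
        intro m
        induction m with
        | zero => norm_num
        | succ m ih => rw [pow_succ]; omega
      have h1 := key (n - 2)
      rw [show n - 2 + 2 = n by omega, show n - 2 + 1 = n - 1 by omega] at h1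
      exact h1.trans (Nat.mul_le_mul (by omega) (Nat.pow_le_pow_left (by omega) _))
    calc (q + 3) * ((q + 3) ^ n * (q + 3) ^ n - 1) ≤ (q + 3) * ((q + 3) ^ n * (q + 3) ^ n) :=
          Nat.mul_le_mul_left _ (Nat.sub_le _ _)
      _ = (q + 3) ^ (2 * n + 1) := by ring
      _ < (q + 3 + 1) ^ (2 * n + 1) := Nat.pow_lt_pow_left (by omega) (by omega)
      _ ≤ (q + 3 + 1) ^ ((q + 3 - 1) * (q + 3) ^ (n - 1)) := Nat.pow_le_pow_right (by omega) hexp
      _ ≤ _ := Nat.le_mul_of_pos_left _ (by omega)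

theorem count_contradiction {p n M N Wc : ℕ} (hp3 : 3 ≤ p) (hN : N = p ^ n) (hW2 : 2 ≤ Wc)
    (hM1 : 1 ≤ M) (hMW : M ^ p ≤ Wc) (hlow : (p + 1) ^ N ≤ Wc)
    (hle : (p - 1) * (Wc - 1) ≤ (N * N * p - p) * (M - 1)) : False := by
  subst hN
  set K := p ^ n * p ^ n * p - p with hK
  rcases Nat.eq_zero_or_pos n with rfl | hn
  · simp only [pow_zero, one_mul, Nat.sub_self] at hK
    rw [hK, zero_mul, Nat.le_zero, Nat.mul_eq_zero] at hle
    omega
  have hKeq : K = p * (p ^ n * p ^ n - 1) := by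
    rw [hK, Nat.mul_sub, mul_one, mul_comm p]
  have hKge : p - 1 ≤ K := by
    rw [hKeq]
    have h2 : 2 ≤ p ^ n * p ^ n := le_trans (le_trans (by omega) (Nat.le_self_pow (by omega) p))
      (Nat.le_mul_of_pos_right _ (by positivity))
    exact (Nat.sub_le p 1).trans (Nat.le_mul_of_pos_right _ (by omega))
  have h1 : (p - 1) * Wc ≤ K * M := by
    have e1 : (p - 1) * Wc = (p - 1) * (Wc - 1) + (p - 1) := by
      rw [← Nat.mul_succ]; congr 1; omega
    have e2 : K * M = K * (M - 1) + K := by rw [← Nat.mul_succ]; congr 1; omega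
    omega
  set X := (p + 1) ^ ((p - 1) * p ^ (n - 1))
  have hX : X ^ p ≤ Wc ^ (p - 1) := by
    refine le_trans (le_of_eq ?_) (Nat.pow_le_pow_left hlow (p - 1))
    rw [← pow_mul, ← pow_mul, mul_assoc, ← pow_succ, show n - 1 + 1 = n by omega, mul_comm]
  have h2 : ((p - 1) * X) ^ p * Wc ≤ K ^ p * Wc := by
    calc ((p - 1) * X) ^ p * Wc = (p - 1) ^ p * (X ^ p * Wc) := by rw [mul_pow, mul_assoc]
      _ ≤ (p - 1) ^ p * (Wc ^ (p - 1) * Wc) :=
          Nat.mul_le_mul_left _ (Nat.mul_le_mul_right _ hX)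
      _ = ((p - 1) * Wc) ^ p := by
          rw [← pow_succ, show p - 1 + 1 = p by omega, mul_pow]
      _ ≤ (K * M) ^ p := Nat.pow_le_pow_left h1 p
      _ = K ^ p * M ^ p := mul_pow _ _ _
      _ ≤ K ^ p * Wc := Nat.mul_le_mul_left _ hMW
  have h3 := (Nat.pow_le_pow_iff_left (by omega : p ≠ 0)).mp (Nat.le_of_mul_le_mul_right h2 (by omega))
  have := numeric hp3 hn
  rw [← hKeq] at this
  exact absurd h3 (not_le.mpr this)

/-- An odd `p`-group all of whose elementary abelian subgroups normal in `L` are cyclic and act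
without fixed points has a regular vector. -/
theorem exists_regular_vector [Nontrivial W] (hp2 : p ≠ 2) (Q : Subgroup L) [hQn : Q.Normal]
    (hQ : IsPGroup p Q) (hW : (Nat.card W).Coprime p)
    (hE : ∀ E : Subgroup L, E ≤ Q → E.Normal → (∀ a ∈ E, ∀ b ∈ E, a * b = b * a) →
      (∀ a ∈ E, a ^ p = 1) → ∀ a ∈ E, a ≠ 1 →
        (∀ b ∈ E, b ∈ Subgroup.zpowers a) ∧ ∀ w : W, a • w = w → w = 1) :
    ∃ v : W, ∀ q ∈ Q, q • v = v → q = 1 := by
  classical
  by_cases hQ1 : Q = ⊥
  · exact ⟨1, fun q hq _ => by rwa [hQ1, Subgroup.mem_bot] at hq⟩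
  by_contra hcon
  push Not at hcon
  have hp3 : 3 ≤ p := by have := hp.out.two_le; omega
  -- elements of order `p`
  have horder : ∀ q ∈ Q, q ≠ 1 → ∃ k : ℕ, (q ^ k) ^ p = 1 ∧ q ^ k ≠ 1 := by
    intro q hq hq1
    obtain ⟨j, hj⟩ := hQ ⟨q, hq⟩
    have hj' : q ^ p ^ j = 1 := congrArg Subtype.val hj
    obtain ⟨i, -, hi⟩ := (Nat.dvd_prime_pow hp.out).mp (orderOf_dvd_of_pow_eq_one hj')
    cases i with
    | zero => exact absurd (orderOf_eq_one_iff.mp (by rw [hi, pow_zero])) hq1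
    | succ i =>
      refine ⟨p ^ i, by rw [← pow_mul, ← pow_succ, ← hi, pow_orderOf_eq_one], fun h => ?_⟩
      have := orderOf_dvd_of_pow_eq_one h
      rw [hi, Nat.pow_dvd_pow_iff_le_right hp.out.one_lt] at this
      omega
  -- a central element of order `p`
  obtain ⟨z₀, hz₀Q, hz₀p, hz₀1, hz₀c⟩ : ∃ z ∈ Q, z ^ p = 1 ∧ z ≠ 1 ∧ ∀ q ∈ Q, q * z = z * q := by
    haveI : Nontrivial Q := (Subgroup.nontrivial_iff_ne_bot Q).mpr hQ1
    obtain ⟨x, -, hxc, hx1⟩ := OddLocal.exists_mem_center_ne_one_of_normal hQ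
      (⊤ : Subgroup Q) top_ne_bot
    obtain ⟨k, hk, hk1⟩ := horder x x.2 fun h => hx1 (Subtype.ext h)
    refine ⟨_, pow_mem x.2 k, hk, hk1, fun q hq => ?_⟩
    exact (Commute.pow_right
      (congrArg Subtype.val (Subgroup.mem_center_iff.mp hxc ⟨q, hq⟩) : Commute q (x : L)) k).eq
  let Ω : Subgroup L :=
    { carrier := {z | z ∈ Q ∧ z ^ p = 1 ∧ ∀ q ∈ Q, q * z = z * q}
      one_mem' := ⟨one_mem Q, one_pow p, fun q _ => by rw [mul_one, one_mul]⟩
      mul_mem' := fun {a b} ha hb => ⟨mul_mem ha.1 hb.1, by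
        rw [(show Commute a b from (ha.2.2 b hb.1).symm).mul_pow, ha.2.1, hb.2.1, one_mul],
        fun q hq => (Commute.mul_right (ha.2.2 q hq) (hb.2.2 q hq)).eq⟩
      inv_mem' := fun {a} ha => ⟨inv_mem ha.1, by rw [inv_pow, ha.2.1, inv_one],
        fun q hq => (Commute.inv_right (show Commute q a from ha.2.2 q hq)).eq⟩ }
  have hconjQ : ∀ (g : L) {q : L}, q ∈ Q → g⁻¹ * q * g ∈ Q := fun g q hq => by
    simpa using hQn.conj_mem q hq g⁻¹
  have hcconj : ∀ (g z : L), (∀ q ∈ Q, q * z = z * q) →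
      ∀ q ∈ Q, q * (g * z * g⁻¹) = g * z * g⁻¹ * q := by
    intro g z hz q hq
    calc q * (g * z * g⁻¹) = g * ((g⁻¹ * q * g) * z) * g⁻¹ := by group
      _ = g * (z * (g⁻¹ * q * g)) * g⁻¹ := by rw [hz _ (hconjQ g hq)]
      _ = _ := by group
  have hΩn : Ω.Normal := ⟨fun z hz g => ⟨hQn.conj_mem z hz.1 g, by rw [conj_pow, hz.2.1]; group,
    hcconj g z hz.2.2⟩⟩
  have hΩ : ∀ z, z ∈ Q → z ^ p = 1 → (∀ q ∈ Q, q * z = z * q) → z ∈ Subgroup.zpowers z₀ :=
    fun z hz hzp hzc => (hE Ω (fun z hz => hz.1) hΩn (fun a ha b hb => (ha.2.2 b hb.1).symm)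
      (fun a ha => ha.2.1) z₀ ⟨hz₀Q, hz₀p, hz₀c⟩ hz₀1).1 z ⟨hz, hzp, hzc⟩
  have hfpf : ∀ c ∈ Subgroup.zpowers z₀, c ≠ 1 → ∀ w : W, c • w = w → w = 1 := fun c hc hc1 =>
    (hE Ω (fun z hz => hz.1) hΩn (fun a ha b hb => (ha.2.2 b hb.1).symm)
      (fun a ha => ha.2.1) c
      ((Subgroup.zpowers_le.mpr (show z₀ ∈ Ω from ⟨hz₀Q, hz₀p, hz₀c⟩)) hc) hc1).2
  have hzc : ∀ q ∈ Q, ∀ c ∈ Subgroup.zpowers z₀, q * c = c * q := by
    intro q hq c hc
    obtain ⟨k, rfl⟩ := Subgroup.mem_zpowers_iff.mp hc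
    exact (Commute.zpow_right (hz₀c q hq) k).eq
  -- the subgroup `U`
  let inU : L → Prop := fun u =>
    u ∈ Q ∧ u ^ p = 1 ∧ ∀ q ∈ Q, ∀ q' ∈ Q, q' * (q * u * q⁻¹ * u⁻¹) = q * u * q⁻¹ * u⁻¹ * q'
  have hUcomm : ∀ u, inU u → ∀ q ∈ Q, q * u * q⁻¹ * u⁻¹ ∈ Subgroup.zpowers z₀ := by
    intro u hu q hq
    set c := q * u * q⁻¹ * u⁻¹ with hc
    have hcQ : c ∈ Q := mul_mem (mul_mem (mul_mem hq hu.1) (inv_mem hq)) (inv_mem hu.1)
    refine hΩ c hcQ ?_ (hu.2.2 q hq)
    have h1 : (q * u * q⁻¹) ^ p = 1 := by rw [conj_pow, hu.2.1]; group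
    rw [show q * u * q⁻¹ = c * u by rw [hc, inv_mul_cancel_right],
      (show Commute c u from (hu.2.2 q hq u hu.1).symm).mul_pow, hu.2.1, mul_one] at h1
    exact h1
  have hUmul : ∀ u v, inU u → inU v → inU (u * v) := by
    intro u v hu hv
    refine ⟨mul_mem hu.1 hv.1, ?_, fun q hq q' hq' => ?_⟩
    · rw [mul_pow_choose (c := v * u * v⁻¹ * u⁻¹) (inv_mul_cancel_right _ _).symm
        (hzc u hu.1 _ (hUcomm u hu v hv.1)) (hzc v hv.1 _ (hUcomm u hu v hv.1)), hu.2.1, hv.2.1,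
        mul_one, mul_one]
      obtain ⟨m, hm⟩ := hp.out.dvd_choose_self (k := 2) two_ne_zero (by omega)
      have hcp : (v * u * v⁻¹ * u⁻¹) ^ p = 1 := by
        obtain ⟨k, hk⟩ := Subgroup.mem_zpowers_iff.mp (hUcomm u hu v hv.1)
        rw [← hk, ← zpow_natCast, ← zpow_mul, mul_comm, zpow_mul, zpow_natCast, hz₀p, one_zpow]
      rw [hm, pow_mul, hcp, one_pow]
    · have hcv := hzc u hu.1 _ (hUcomm v hv q hq)
      have e : q * (u * v) * q⁻¹ * (u * v)⁻¹ =
          (q * u * q⁻¹ * u⁻¹) * (q * v * q⁻¹ * v⁻¹) := by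
        calc q * (u * v) * q⁻¹ * (u * v)⁻¹
            = (q * u * q⁻¹ * u⁻¹) * (u * (q * v * q⁻¹ * v⁻¹) * u⁻¹) := by group
          _ = _ := by rw [hcv, mul_inv_cancel_right]
      rw [e]
      exact (Commute.mul_right (hu.2.2 q hq q' hq') (hv.2.2 q hq q' hq')).eq
  have hUone : inU 1 := ⟨one_mem Q, one_pow p, fun q _ q' _ => by simp⟩
  have hUpow : ∀ u, inU u → ∀ k : ℕ, inU (u ^ k) := by
    intro u hu k
    induction k with
    | zero => rw [pow_zero]; exact hUone
    | succ k ih => rw [pow_succ]; exact hUmul _ _ ih hu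
  let U : Subgroup L :=
    { carrier := {u | inU u}
      one_mem' := hUone
      mul_mem' := fun ha hb => hUmul _ _ ha hb
      inv_mem' := fun {u} hu => by
        have h : u⁻¹ = u ^ (p - 1) := by
          refine inv_eq_of_mul_eq_one_right ?_
          rw [← pow_succ', show p - 1 + 1 = p by omega, hu.2.1]
        rw [h]; exact hUpow u hu _ }
  have hz₀U : z₀ ∈ U := ⟨hz₀Q, hz₀p, fun q hq q' hq' => by
    rw [hz₀c q hq, mul_inv_cancel_right, mul_inv_cancel, mul_one, one_mul]⟩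
  have hUn : U.Normal := ⟨fun u hu g => ⟨hQn.conj_mem u hu.1 g, by rw [conj_pow, hu.2.1]; group,
    fun q hq => by
      have e : q * (g * u * g⁻¹) * q⁻¹ * (g * u * g⁻¹)⁻¹ =
          g * ((g⁻¹ * q * g) * u * (g⁻¹ * q * g)⁻¹ * u⁻¹) * g⁻¹ := by group
      rw [e]
      exact hcconj g _ (hu.2.2 _ (hconjQ g hq))⟩⟩
  have hpair : Pairing Q U z₀ p := ⟨fun u hu => hu.1, fun u hu => hu.2.1, hz₀U, hz₀1, hz₀c, hUcomm,
    fun u hu hall => by
      have hn : (U ⊓ Subgroup.centralizer (U : Set L)).Normal := inferInstance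
      exact (hE (U ⊓ Subgroup.centralizer (U : Set L)) (fun u hu => hu.1.1) hn
        (fun a ha b hb => Subgroup.mem_centralizer_iff.mp hb.2 a ha.1)
        (fun a ha => ha.1.2.1) z₀ ⟨hz₀U, Subgroup.mem_centralizer_iff.mpr fun w hw =>
          hz₀c w hw.1⟩ hz₀1).1 u ⟨hu, Subgroup.mem_centralizer_iff.mpr hall⟩⟩
  -- the centralizer of `U`
  set C := Q ⊓ Subgroup.centralizer (U : Set L) with hC
  haveI hCn : C.Normal := inferInstance
  have hdecomp : ∀ q ∈ Q, ∃ c ∈ C, ∃ u ∈ U, q = c * u := by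
    intro q hq
    obtain ⟨u, hu, hus⟩ := (hpair.dual U hz₀U le_rfl).2.2 q hq
    exact ⟨q * u⁻¹, ⟨(show q * u⁻¹ ∈ Q from mul_mem hq (inv_mem (hpair.le hu))),
      Subgroup.mem_centralizer_iff.mpr fun s hs => (hus s hs).symm⟩, u, hu,
      (inv_mul_cancel_right _ _).symm⟩
  have hCU : ∀ c ∈ C, ∀ u ∈ U, c * u = u * c := fun c hc u hu =>
    (Subgroup.mem_centralizer_iff.mp hc.2 u hu).symm
  have hCab : IsCyclic C := by
    by_contra hnc
    haveI := hCn
    have hCp : IsPGroup p C := hQ.to_le inf_le_left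
    obtain ⟨E, hEn, hEcard, hEab, hEp⟩ := PGroup23.exists_normal_elementary_sq hp2 hCp hnc
    have hcen := OddLocal.commutator_top_le_center hCp E hEcard.le
    have hEU : ∀ e ∈ E, (e : L) ∈ U := by
      intro e he
      refine ⟨e.2.1, by rw [← Subgroup.coe_pow, hEp e he, Subgroup.coe_one], fun q hq => ?_⟩
      obtain ⟨c, hc, u, hu, rfl⟩ := hdecomp q hq
      set d : C := ⟨c, hc⟩ * e * ⟨c, hc⟩⁻¹ * e⁻¹ with hd
      have hdc : d ∈ Subgroup.center C := by
        have h1 := Subgroup.inv_mem _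
          (hcen (Subgroup.commutator_mem_commutator he (Subgroup.mem_top ⟨c, hc⟩))).2
        rwa [commutatorElement_inv, commutatorElement_def] at h1
      have hde : c * u * (e : L) * (c * u)⁻¹ * (e : L)⁻¹ = (d : L) := by
        rw [mul_assoc c u, ← hCU e e.2 u hu, ← mul_assoc c, mul_inv_rev, hd]
        simp only [Subgroup.coe_mul, Subgroup.coe_inv]
        group
      intro q' hq'
      rw [hde]
      obtain ⟨c', hc', u', hu', rfl⟩ := hdecomp q' hq'
      exact (Commute.mul_left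
        (congrArg Subtype.val (Subgroup.mem_center_iff.mp hdc ⟨c', hc'⟩) : Commute c' (d : L))
        (show Commute u' (d : L) from (hCU d d.2 u' hu').symm)).eq
    have hsub : E.map C.subtype ≤ Subgroup.zpowers z₀ := by
      rintro _ ⟨e, he, rfl⟩
      exact hpair.nondeg _ (hEU e he) fun w hw => (hCU e e.2 w hw).symm
    have h1 := Nat.card_le_card_of_injective _ (Subgroup.inclusion_injective hsub)
    rw [Subgroup.card_map_of_injective C.subtype_injective, hEcard, Nat.card_zpowers,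
      orderOf_eq_prime hz₀p hz₀1] at h1
    nlinarith
  have hallU : ∀ y ∈ Q, y ^ p = 1 → y ∈ U := by
    intro y hy hyp
    obtain ⟨c, hc, u, hu, rfl⟩ := hdecomp y hy
    rw [(show Commute c u from hCU c hc u hu).mul_pow, hu.2.1, mul_one] at hyp
    haveI := hCab
    let Ωc : Subgroup L :=
      { carrier := {c | c ∈ C ∧ c ^ p = 1}
        one_mem' := ⟨one_mem C, one_pow p⟩
        mul_mem' := fun {a b} ha hb => ⟨mul_mem ha.1 hb.1, by
          rw [(show Commute a b from congrArg Subtype.val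
            (IsCyclic.commGroup.mul_comm (⟨a, ha.1⟩ : C) ⟨b, hb.1⟩)).mul_pow, ha.2, hb.2, one_mul]⟩
        inv_mem' := fun {a} ha => ⟨inv_mem ha.1, by rw [inv_pow, ha.2, inv_one]⟩ }
    have hΩcn : Ωc.Normal := ⟨fun z hz g => ⟨hCn.conj_mem z hz.1 g, by rw [conj_pow, hz.2]; group⟩⟩
    have hcz := (hE Ωc (fun z hz => hz.1.1) hΩcn
      (fun a ha b hb => congrArg Subtype.val
        (IsCyclic.commGroup.mul_comm (⟨a, ha.1⟩ : C) ⟨b, hb.1⟩)) (fun a ha => ha.2) z₀
      ⟨⟨hz₀Q, Subgroup.mem_centralizer_iff.mpr fun w hw => hz₀c w hw.1⟩, hz₀p⟩ hz₀1).1 c ⟨hc, hyp⟩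
    exact mul_mem ((Subgroup.zpowers_le.mpr hz₀U) hcz) hu
  -- a maximal abelian subgroup
  obtain ⟨A, ⟨hzA, hAU, hAab⟩, hAmax⟩ := Set.Finite.exists_maximal
    (s := {A : Subgroup L | z₀ ∈ A ∧ A ≤ U ∧ ∀ a ∈ A, ∀ b ∈ A, a * b = b * a}) (Set.toFinite _)
    ⟨Subgroup.zpowers z₀, Subgroup.mem_zpowers z₀, Subgroup.zpowers_le.mpr hz₀U,
      fun a ha b hb => hzc a ((Subgroup.zpowers_le.mpr hz₀Q) ha) b hb⟩
  have hCA : U ⊓ Subgroup.centralizer (A : Set L) = A := by
    refine le_antisymm (fun b hb => ?_) fun a ha => ⟨hAU ha,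
      Subgroup.mem_centralizer_iff.mpr fun s hs => hAab s hs a ha⟩
    have hbA : ∀ s ∈ A, s * b = b * s := fun s hs => Subgroup.mem_centralizer_iff.mp hb.2 s hs
    have hcl : A ⊔ Subgroup.zpowers b ≤
        Subgroup.centralizer ((A ⊔ Subgroup.zpowers b : Subgroup L) : Set L) := by
      have h1 : ∀ g, (g ∈ A ∨ g = b) → A ⊔ Subgroup.zpowers b ≤ Subgroup.centralizer {g} := by
        intro g hg
        refine sup_le (fun a ha => ?_) (Subgroup.zpowers_le.mpr ?_)
        · rw [Subgroup.mem_centralizer_singleton_iff]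
          rcases hg with hg | rfl
          · exact hAab a ha g hg
          · exact hbA a ha
        · rw [Subgroup.mem_centralizer_singleton_iff]
          rcases hg with hg | rfl
          · exact (hbA g hg).symm
          · rfl
      refine sup_le (fun a ha => ?_) (Subgroup.zpowers_le.mpr ?_)
      · refine Subgroup.mem_centralizer_iff.mpr fun s hs => ?_
        exact (Subgroup.mem_centralizer_singleton_iff.mp (h1 a (Or.inl ha) hs))
      · refine Subgroup.mem_centralizer_iff.mpr fun s hs => ?_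
        exact (Subgroup.mem_centralizer_singleton_iff.mp (h1 b (Or.inr rfl) hs))
    exact hAmax (y := A ⊔ Subgroup.zpowers b) ⟨Subgroup.mem_sup_left hzA,
      sup_le hAU (Subgroup.zpowers_le.mpr hb.1),
      fun x hx y hy => (Subgroup.mem_centralizer_iff.mp (hcl hx) y hy).symm⟩ le_sup_left
      (Subgroup.mem_sup_right (Subgroup.mem_zpowers b))
  obtain ⟨z, hz, B, hBA, -, hXne, hsplit⟩ := exists_hyperplane_fixed (W := W) hW A
    (fun a ha b hb => hAab a ha b hb) (fun a ha => (hAU ha).2.1)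
    (fun v hv => hfpf z₀ (Subgroup.mem_zpowers z₀) hz₀1 v (hv z₀ hzA))
  have hz₀B : z₀ ∉ B := by
    intro h
    refine hXne ((Subgroup.eq_bot_iff_forall _).mpr fun w hw => ?_)
    exact hfpf z₀ (Subgroup.mem_zpowers z₀) hz₀1 w (hw z₀ h)
  have hBcop : (Nat.card W).Coprime (Nat.card B) := by
    obtain ⟨k, hk⟩ := (hQ.to_le (hBA.trans (hAU.trans fun u hu => hu.1))).exists_card_eq
    rw [hk]; exact hW.pow_right k
  set A' := A.subgroupOf U
  haveI : Fintype (↥U ⧸ A') := Fintype.ofFinite _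
  have hlow1 : Nat.card (fixedSub W (B : Set L)) ^ Fintype.card (↥U ⧸ A') ≤ Nat.card W := by
    refine card_fixed_pow_le (fun k => ((k.out : U) : L)) B hBcop fun j k hjk => ?_
    set g := ((j.out : U) : L)⁻¹ * ((k.out : U) : L) with hg
    have hgU : g ∈ U := mul_mem (inv_mem (j.out).2) (k.out).2
    have hgA : g ∉ A := fun h => hjk (by
      rw [← QuotientGroup.out_eq' j, ← QuotientGroup.out_eq' k]
      exact QuotientGroup.eq.mpr h)
    obtain ⟨b, hb, hgb⟩ : ∃ b ∈ B, g * b ≠ b * g := by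
      by_contra hall
      push Not at hall
      set K := Subgroup.centralizer ({g} : Set L) with hK
      have hBK : B ≤ K := fun b hb => Subgroup.mem_centralizer_singleton_iff.mpr (hall b hb).symm
      have hz₀K : z₀ ∈ K := Subgroup.mem_centralizer_singleton_iff.mpr (hz₀c g hgU.1).symm
      obtain ⟨i, hi⟩ := hsplit z₀ hzA
      have hzi : z ^ i ∈ K := (mul_mem_cancel_left hz₀K).mp (hBK hi)
      have hzK : z ∈ K := by
        have hnd : ¬ p ∣ i := fun h => by
          obtain ⟨m, rfl⟩ := h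
          rw [pow_mul, (hAU hz).2.1, one_pow, mul_one] at hi
          exact hz₀B hi
        obtain ⟨m, hm⟩ := exists_pow_eq_self_of_coprime (x := z) (n := i)
          ((Nat.Coprime.coprime_dvd_right (orderOf_dvd_of_pow_eq_one (hAU hz).2.1)
            ((hp.out.coprime_iff_not_dvd.mpr hnd).symm)))
        exact hm ▸ pow_mem hzi m
      have : g ∈ U ⊓ Subgroup.centralizer (A : Set L) := by
        refine ⟨hgU, Subgroup.mem_centralizer_iff.mpr fun a ha => ?_⟩
        obtain ⟨i, hi⟩ := hsplit a ha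
        exact Subgroup.mem_centralizer_singleton_iff.mp
          ((mul_mem_cancel_right (pow_mem hzK i)).mp (hBK hi))
      rw [hCA] at this
      exact hgA this
    set c := g * b * g⁻¹ * b⁻¹ with hc
    have hcz : c ∈ Subgroup.zpowers z₀ := hUcomm b (hAU (hBA hb)) g hgU.1
    have hc1 : c ≠ 1 := fun e => hgb (by
      rw [hc, mul_inv_eq_one, mul_inv_eq_iff_eq_mul] at e; exact e)
    refine ⟨c * b, fun b' hb' => hAab _ (mul_mem ((Subgroup.zpowers_le.mpr hzA) hcz) (hBA hb)) b'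
      (hBA hb'), fun x hx => ?_, fun v hv hcv => hfpf c hcz hc1 v ?_⟩
    · rw [hc, inv_mul_cancel_right, mul_smul, mul_smul, inv_smul_smul, hx b hb]
    · rwa [mul_smul, hv b hb] at hcv
  have hX1 : p + 1 ≤ Nat.card (fixedSub W (B : Set L)) := by
    obtain ⟨⟨x, hx⟩, hx1⟩ := (Subgroup.ne_bot_iff_exists_ne_one.mp hXne)
    have hx1' : x ≠ 1 := fun h => hx1 (Subtype.ext h)
    have hmem : ∀ i : ℕ, z₀ ^ i • x ∈ fixedSub W (B : Set L) := fun i b hb => by
      rw [← mul_smul, hzc b ((hAU (hBA hb)).1) _ (pow_mem (Subgroup.mem_zpowers z₀) i), mul_smul,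
        hx b hb]
    have key : ∀ a b : ℕ, a < b → b < p → z₀ ^ a • x ≠ z₀ ^ b • x := by
      intro a b hab hb h
      have h1 : z₀ ^ (b - a) • x = x := by
        refine MulAction.injective (z₀ ^ a) ?_
        show z₀ ^ a • z₀ ^ (b - a) • x = z₀ ^ a • x
        rw [← mul_smul, ← pow_add, Nat.add_sub_cancel' hab.le, ← h]
      refine hx1' (hfpf _ (pow_mem (Subgroup.mem_zpowers z₀) _) (fun e => ?_) x h1)
      have := Nat.le_of_dvd (by omega) (orderOf_dvd_of_pow_eq_one e)
      rw [orderOf_eq_prime hz₀p hz₀1] at this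
      omega
    calc p + 1 = Nat.card (Option (Fin p)) := by rw [Nat.card_eq_fintype_card, Fintype.card_option, Fintype.card_fin]
      _ ≤ _ := Nat.card_le_card_of_injective
        (fun o : Option (Fin p) => o.elim (1 : fixedSub W (B : Set L)) fun i => ⟨_, hmem i⟩) ?_
    rintro (_ | a) (_ | b) h <;> simp only [Option.elim] at h
    · rfl
    · exact absurd (congrArg Subtype.val h) fun e => hx1' (by
        have e' : (1 : W) = z₀ ^ (b : ℕ) • x := e
        rw [← inv_smul_smul (z₀ ^ (b : ℕ)) x, ← e', smul_one])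
    · exact absurd (congrArg Subtype.val h) fun e => hx1' (by
        have e' : z₀ ^ (a : ℕ) • x = (1 : W) := e
        rw [← inv_smul_smul (z₀ ^ (a : ℕ)) x, e', smul_one])
    · have e := congrArg Subtype.val h
      rcases lt_trichotomy (a : ℕ) b with hlt | heq | hgt
      · exact absurd e (key _ _ hlt b.isLt)
      · rw [Fin.ext heq]
      · exact absurd e.symm (key _ _ hgt a.isLt)
  have hcardU : Nat.card U = Fintype.card (↥U ⧸ A') * Fintype.card (↥U ⧸ A') * p := by
    have h1 := (hpair.dual A hzA hAU).2.1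
    rw [hCA] at h1
    have h2 : Nat.card U = Fintype.card (↥U ⧸ A') * Nat.card A := by
      rw [Subgroup.card_eq_card_quotient_mul_card_subgroup A', ← Nat.card_eq_fintype_card,
        Nat.card_congr (Subgroup.subgroupOfEquivOfLe hAU).toEquiv]
    have h3 : Nat.card A = Fintype.card (↥U ⧸ A') * p := by
      refine Nat.eq_of_mul_eq_mul_left Nat.card_pos (h1.trans ?_)
      rw [h2]; ring
    rw [h2, h3]; ring
  obtain ⟨n, hn⟩ : ∃ n, Fintype.card (↥U ⧸ A') = p ^ n := by
    obtain ⟨k, hk⟩ := (hQ.to_le (show U ≤ Q from fun u hu => hu.1)).exists_card_eq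
    obtain ⟨n, -, hn⟩ := (Nat.dvd_prime_pow hp.out).mp
      (show Fintype.card (↥U ⧸ A') ∣ p ^ k from hk ▸ hcardU ▸ dvd_mul_of_dvd_left (dvd_mul_right _ _) _)
    exact ⟨n, hn⟩
  -- count the vectors with nontrivial stabilizer
  haveI := Fintype.ofFinite L
  haveI := Fintype.ofFinite W
  let D : Finset L := Finset.univ.filter (fun y => y ∈ U) \
    Finset.univ.filter (fun y => y ∈ Subgroup.zpowers z₀)
  have hmemD : ∀ y, y ∈ D ↔ y ∈ U ∧ y ∉ Subgroup.zpowers z₀ := fun y => by simp [D]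
  have hDcard : D.card = Nat.card U - p := by
    rw [Finset.card_sdiff_of_subset (fun y hy => by
      simp only [Finset.mem_filter, Finset.mem_univ, true_and] at hy ⊢
      exact (Subgroup.zpowers_le.mpr hz₀U) hy)]
    congr 1
    · rw [Nat.card_eq_fintype_card]
      exact (Fintype.card_subtype _).symm
    · rw [← Fintype.card_subtype, ← Nat.card_eq_fintype_card]
      exact (Nat.card_zpowers z₀).trans (orderOf_eq_prime hz₀p hz₀1)
  have hexy : ∀ v : W, v ≠ 1 → ∃ y ∈ D, y • v = v ∧ y ≠ 1 := by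
    intro v hv
    obtain ⟨q, hq, hqv, hq1⟩ := hcon v
    obtain ⟨k, hk, hk1⟩ := horder q hq hq1
    have hfix : q ^ k • v = v := (MulAction.stabilizer L v).pow_mem hqv k
    refine ⟨q ^ k, (hmemD _).mpr ⟨hallU _ (pow_mem hq k) hk, fun h => hv ?_⟩, hfix, hk1⟩
    exact hfpf _ h hk1 v hfix
  have hbound : ∀ y ∈ D, Nat.card (fixedSub W ((Subgroup.zpowers y : Subgroup L) : Set L)) ^ p ≤ Nat.card W := by
    intro y hy
    obtain ⟨hyU, hyz⟩ := (hmemD y).mp hy
    obtain ⟨g, hg, hgy⟩ : ∃ g ∈ U, g * y ≠ y * g := by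
      by_contra h
      push Not at h
      exact hyz (hpair.nondeg y hyU h)
    have hycop : (Nat.card W).Coprime (Nat.card (Subgroup.zpowers y)) := by
      rw [Nat.card_zpowers]
      exact hW.coprime_dvd_right (orderOf_dvd_of_pow_eq_one hyU.2.1)
    set c := g * y * g⁻¹ * y⁻¹ with hc
    have hcz : c ∈ Subgroup.zpowers z₀ := hUcomm y hyU g hg.1
    have hc1 : c ≠ 1 := fun e => hgy (by
      rw [hc, mul_inv_eq_one, mul_inv_eq_iff_eq_mul] at e; exact e)
    have hconj := conj_pow_mul (show g * y * g⁻¹ = c * y by rw [hc, inv_mul_cancel_right])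
      (hzc g hg.1 c hcz)
    have h := card_fixed_pow_le (W := W) (fun i : Fin p => g ^ (i : ℕ)) (Subgroup.zpowers y) hycop ?_
    · rwa [Fintype.card_fin] at h
    intro j k hjk
    set i := p - (j : ℕ) + k with hi
    have hgi : (g ^ (j : ℕ))⁻¹ * g ^ (k : ℕ) = g ^ i := by
      rw [inv_mul_eq_iff_eq_mul, ← pow_add, hi, ← Nat.add_assoc, Nat.add_sub_cancel' j.isLt.le,
        pow_add, hg.2.1, one_mul]
    have hci : c ^ i ≠ 1 := fun e => by
      have hcp : c ^ p = 1 := by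
        obtain ⟨m, hm⟩ := Subgroup.mem_zpowers_iff.mp hcz
        rw [← hm, ← zpow_natCast, ← zpow_mul, mul_comm, zpow_mul, zpow_natCast, hz₀p, one_zpow]
      obtain ⟨m, hm⟩ := (orderOf_eq_prime hcp hc1) ▸ orderOf_dvd_of_pow_eq_one e
      have hj := j.isLt
      have hk := k.isLt
      rcases m with _ | _ | m
      · omega
      · exact hjk (Fin.ext (by omega))
      · rw [mul_add, mul_add, mul_one] at hm
        omega
    have hcz' : c ^ i ∈ Subgroup.zpowers z₀ := pow_mem hcz i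
    refine ⟨c ^ i * y, fun b hb => ?_, fun x hx => ?_, fun v hv hcv => hfpf _ hcz' hci v ?_⟩
    · obtain ⟨m, rfl⟩ := Subgroup.mem_zpowers_iff.mp hb
      exact (Commute.mul_left (hzc _ (zpow_mem hyU.1 m) _ hcz').symm
        ((Commute.refl y).zpow_right m)).eq
    · show (c ^ i * y) • (((g ^ (j : ℕ))⁻¹ * g ^ (k : ℕ)) • x) =
        ((g ^ (j : ℕ))⁻¹ * g ^ (k : ℕ)) • x
      rw [hgi, ← hconj i, mul_smul, mul_smul, inv_smul_smul, hx y (Subgroup.mem_zpowers y)]
    · rwa [mul_smul, hv y (Subgroup.mem_zpowers y)] at hcv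
  obtain ⟨v₁, hv₁⟩ := exists_ne (1 : W)
  have hDne : D.Nonempty := let ⟨y, hy, _⟩ := hexy v₁ hv₁; ⟨y, hy⟩
  let f : L → ℕ := fun y => Nat.card (fixedSub W ((Subgroup.zpowers y : Subgroup L) : Set L))
  obtain ⟨y₀, hy₀, hmax⟩ := Finset.exists_max_image D f hDne
  have hcount := Finset.sum_card_bipartiteAbove_eq_sum_card_bipartiteBelow
    (s := D) (t := (Finset.univ : Finset W).erase 1) (fun y v => y • v = v)
  have hlow : (p - 1) * (Nat.card W - 1) ≤
      ∑ v ∈ (Finset.univ : Finset W).erase 1, (D.bipartiteBelow (fun y v => y • v = v) v).card := by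
    rw [mul_comm, Nat.card_eq_fintype_card, ← Finset.card_univ,
      ← Finset.card_erase_of_mem (Finset.mem_univ (1 : W)), ← smul_eq_mul]
    refine Finset.card_nsmul_le_sum _ _ _ fun v hv => ?_
    obtain ⟨y, hy, hyv, hy1⟩ := hexy v (Finset.mem_erase.mp hv).1
    obtain ⟨hyU, hyz⟩ := (hmemD y).mp hy
    calc p - 1 = (Finset.Ico 1 p).card := (Nat.card_Ico 1 p).symm
      _ ≤ _ := Finset.card_le_card_of_injOn (fun i => y ^ i) (fun i hi => ?_) ?_
    · rw [Finset.mem_coe, Finset.mem_Ico] at hi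
      rw [Finset.mem_coe, Finset.mem_bipartiteBelow, hmemD]
      refine ⟨⟨pow_mem hyU i, fun h => hyz ?_⟩, (MulAction.stabilizer L v).pow_mem hyv i⟩
      obtain ⟨m, hm⟩ := exists_pow_eq_self_of_coprime (x := y) (n := i)
        (Nat.Coprime.coprime_dvd_right (orderOf_dvd_of_pow_eq_one hyU.2.1)
          (Nat.coprime_of_lt_prime (by omega) hi.2 hp.out).symm)
      exact hm ▸ pow_mem h m
    · intro a ha b hb hab
      rw [Finset.mem_coe, Finset.mem_Ico] at ha hb
      have := pow_inj_mod.mp hab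
      rwa [orderOf_eq_prime hyU.2.1 hy1, Nat.mod_eq_of_lt ha.2, Nat.mod_eq_of_lt hb.2] at this
  have hhigh : ∑ y ∈ D, (((Finset.univ : Finset W).erase 1).bipartiteAbove (fun y v => y • v = v) y).card
      ≤ D.card * (f y₀ - 1) := by
    rw [← smul_eq_mul]
    refine Finset.sum_le_card_nsmul _ _ _ fun y hy => ?_
    refine le_trans ?_ (Nat.sub_le_sub_right (hmax y hy) 1)
    have hsub : ((Finset.univ : Finset W).erase 1).bipartiteAbove (fun y v => y • v = v) y ⊆
        (Finset.univ.filter (fun v => v ∈ fixedSub W ((Subgroup.zpowers y : Subgroup L) : Set L))).erase 1 := by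
      intro v hv
      rw [Finset.mem_bipartiteAbove] at hv
      refine Finset.mem_erase.mpr ⟨(Finset.mem_erase.mp hv.1).1,
        Finset.mem_filter.mpr ⟨Finset.mem_univ _, fun b hb => ?_⟩⟩
      exact Subgroup.zpowers_le.mpr (show y ∈ MulAction.stabilizer L v from hv.2) hb
    refine (Finset.card_le_card hsub).trans (le_of_eq ?_)
    rw [Finset.card_erase_of_mem (Finset.mem_filter.mpr ⟨Finset.mem_univ _, one_mem _⟩),
      ← Fintype.card_subtype]
    simp only [f, Nat.card_eq_fintype_card]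
  refine count_contradiction hp3 hn Finite.one_lt_card Nat.card_pos (hbound y₀ hy₀)
    ((Nat.pow_le_pow_left hX1 _).trans hlow1) ?_
  rw [← hcardU, ← hDcard]
  exact hlow.trans (hcount ▸ hhigh)

end Cfsg.Agent.RegOrbit23
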