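import Cfsg.Agent.Lib.RegOrbit23.PowerSet
import Cfsg.Agent.Lib.RegOrbit23.Primitive

/-!
# A vector moved by every conjugate of a given element of a normal odd p-subgroup
-/

set_option autoImplicit false
set_option linter.unusedSectionVars false

namespace Cfsg.Agent.RegOrbit23

open Pointwise

variable {H N : Type*} [Group H] [Finite H] [CommGroup N] [Finite N] [MulDistribMulAction H N]

theorem smul_eq_one' (h : H) (v : N) : h • v = 1 ↔ v = 1 :=
  ⟨fun e => by rw [← inv_smul_smul h v, e, smul_one], fun e => by rw [e, smul_one]⟩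

/-- Independence of a family of subgroups. -/
def Indep (S : Set (Subgroup N)) : Prop :=
  ∀ (T : Finset (Subgroup N)) (f : Subgroup N → N), (∀ X ∈ T, X ∈ S) → (∀ X ∈ T, f X ∈ X) →
    ∏ X ∈ T, f X = 1 → ∀ X ∈ T, f X = 1

theorem Indep.inter {S : Set (Subgroup N)} (h : Indep S) {A B : Subgroup N} (hA : A ∈ S) (hB : B ∈ S)
    (hAB : A ≠ B) {v : N} (hvA : v ∈ A) (hvB : v ∈ B) : v = 1 := by
  classical
  have := h {A, B} (fun X => if X = A then v else v⁻¹)
    (fun X hX => by
      rcases Finset.mem_insert.mp hX with rfl | hX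
      · exact hA
      · rwa [Finset.mem_singleton.mp hX])
    (fun X hX => by
      rcases Finset.mem_insert.mp hX with rfl | hX
      · simpa using hvA
      · rw [Finset.mem_singleton.mp hX, if_neg hAB.symm]; exact inv_mem hvB)
    (by rw [Finset.prod_pair hAB, if_pos rfl, if_neg hAB.symm, mul_inv_cancel]) A
    (Finset.mem_insert_self _ _)
  simpa using this

/-- A block: nontrivial, with independent translates. -/
def IsBlock (H : Type*) {N : Type*} [Group H] [CommGroup N] [MulDistribMulAction H N]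
    (W : Subgroup N) : Prop :=
  W ≠ ⊥ ∧ Indep (MulAction.orbit H W)

/-- A subgroup of a block whose translates inside the block are independent is a block. -/
theorem IsBlock.refine' {W X : Subgroup N} (hW : IsBlock H W) (hXW : X ≤ W) (hX : X ≠ ⊥)
    (hind : Indep {Y | ∃ h : H, h • W = W ∧ h • X = Y}) : IsBlock H X := by
  classical
  refine ⟨hX, fun T f hTS hf hprod => ?_⟩
  obtain ⟨x, hx, hx1⟩ : ∃ x ∈ X, x ≠ 1 := by
    obtain ⟨⟨x, hx⟩, h1⟩ := Subgroup.ne_bot_iff_exists_ne_one.mp hX
    exact ⟨x, hx, fun h => h1 (Subtype.ext h)⟩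
  have hblk : ∀ h h' : H, h • X = h' • X → h • W = h' • W := by
    intro h h' he
    by_contra hne
    have h1 : h • x ∈ h • X := Subgroup.smul_mem_pointwise_smul _ _ _ hx
    have := hW.2.inter ⟨h, rfl⟩ ⟨h', rfl⟩ hne
      (Subgroup.pointwise_smul_le_pointwise_smul_iff.mpr hXW h1)
      (Subgroup.pointwise_smul_le_pointwise_smul_iff.mpr hXW (he ▸ h1))
    exact hx1 (by rwa [smul_eq_one'] at this)
  have : ∀ Y, ∃ h : H, Y ∈ T → h • X = Y := fun Y => by
    by_cases hY : Y ∈ T
    · obtain ⟨h, hh⟩ := hTS Y hY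
      exact ⟨h, fun _ => hh⟩
    · exact ⟨1, fun h => absurd h hY⟩
  choose rep hrep using this
  let blk : Subgroup N → Subgroup N := fun Y => rep Y • W
  have hmem : ∀ Y ∈ T, Y ≤ blk Y := fun Y hY =>
    calc Y = rep Y • X := (hrep Y hY).symm
      _ ≤ rep Y • W := Subgroup.pointwise_smul_le_pointwise_smul_iff.mpr hXW
  have hout : ∀ B ∈ T.image blk, ∏ Y ∈ T.filter (fun Y => blk Y = B), f Y = 1 := by
    refine hW.2 (T.image blk) _ (fun B hB => ?_) (fun B hB => Subgroup.prod_mem _ fun Y hY => ?_) ?_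
    · obtain ⟨Y, -, rfl⟩ := Finset.mem_image.mp hB
      exact ⟨rep Y, rfl⟩
    · rw [Finset.mem_filter] at hY
      exact hY.2 ▸ hmem Y hY.1 (hf Y hY.1)
    · rw [Finset.prod_fiberwise_of_maps_to (fun Y hY => Finset.mem_image_of_mem blk hY) f]
      exact hprod
  intro Y₀ hY₀
  set g := rep Y₀
  set T₀ := T.filter (fun Y => blk Y = blk Y₀)
  have h0 := hout _ (Finset.mem_image_of_mem blk hY₀)
  have hinj : Set.InjOn (fun Y : Subgroup N => g⁻¹ • Y) T₀ := (MulAction.injective g⁻¹).injOn
  have h1 := hind (T₀.image (fun Y => g⁻¹ • Y)) (fun Z => g⁻¹ • f (g • Z))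
    (fun Z hZ => by
      obtain ⟨Y, hY, rfl⟩ := Finset.mem_image.mp hZ
      rw [Finset.mem_filter] at hY
      exact ⟨g⁻¹ * rep Y, by rw [mul_smul, show rep Y • W = g • W from hY.2, inv_smul_smul],
        by rw [mul_smul, hrep Y hY.1]⟩)
    (fun Z hZ => by
      obtain ⟨Y, hY, rfl⟩ := Finset.mem_image.mp hZ
      rw [smul_inv_smul]
      exact Subgroup.smul_mem_pointwise_smul _ _ _ (hf Y (Finset.mem_filter.mp hY).1))
    (by
      rw [Finset.prod_image hinj]
      simp only [smul_inv_smul]
      rw [← Finset.smul_prod', h0, smul_one])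
    (g⁻¹ • Y₀) (Finset.mem_image_of_mem _ (Finset.mem_filter.mpr ⟨hY₀, rfl⟩))
  rwa [smul_inv_smul, smul_eq_one'] at h1

/-- In a faithful irreducible coprime action, every nontrivial element of a normal `p`-subgroup,
`p` odd, has a vector moved by all its conjugates. -/
theorem exists_vector_avoiding_class {p : ℕ} [hp : Fact p.Prime] (hp2 : p ≠ 2)
    (hfaith : ∀ h : H, (∀ v : N, h • v = v) → h = 1)
    (hirr : ∀ X : Subgroup N, (∀ h : H, ∀ v ∈ X, h • v ∈ X) → X = ⊥ ∨ X = ⊤)
    (hN : (Nat.card N).Coprime p) (P : Subgroup H) [hPn : P.Normal] (hP : IsPGroup p P)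
    {x : H} (hx : x ∈ P) (hx1 : x ≠ 1) :
    ∃ v : N, ∀ h : H, (h * x * h⁻¹) • v ≠ v := by
  classical
  haveI : Nontrivial N := by
    by_contra h
    rw [not_nontrivial_iff_subsingleton] at h
    exact hx1 (hfaith x fun v => Subsingleton.elim _ _)
  have htop : IsBlock H (⊤ : Subgroup N) := by
    refine ⟨top_ne_bot, fun T f hT _ hprod X hX => ?_⟩
    have hall : ∀ Y ∈ T, Y = X := by
      have e : ∀ Y ∈ T, Y = (⊤ : Subgroup N) := fun Y hY => by
        obtain ⟨h, rfl⟩ := hT Y hY
        exact eq_top_iff.mpr fun v _ => Subgroup.mem_pointwise_smul_iff_inv_smul_mem.mpr trivial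
      exact fun Y hY => (e Y hY).trans (e X hX).symm
    rwa [Finset.prod_eq_single X (fun Y hY hne => absurd (hall Y hY) hne)
      (fun h => absurd hX h)] at hprod
  obtain ⟨W, hW, hWmin⟩ := Set.Finite.exists_minimal (s := {W : Subgroup N | IsBlock H W})
    (Set.toFinite _) ⟨⊤, htop⟩
  have hmin : ∀ X, X ≤ W → X ≠ ⊥ → Indep {Y | ∃ h : H, h • W = W ∧ h • X = Y} → X = W :=
    fun X hXW hX hind => le_antisymm hXW (hWmin (hW.refine' hXW hX hind) hXW)
  obtain ⟨hW0, hWind⟩ := hW
  haveI : Nontrivial W := (Subgroup.nontrivial_iff_ne_bot W).mpr hW0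
  -- an element fixing every translate pointwise is trivial
  have hfix : ∀ y : H, (∀ B ∈ MulAction.orbit H W, ∀ v ∈ B, y • v = v) → y = 1 := by
    intro y hy
    let S : Subgroup N := ⨆ h : H, h • W
    have hS : S = ⊤ := by
      refine (hirr S fun h v hv => ?_).resolve_left fun hb => hW0 (le_bot_iff.mp
        (hb ▸ (show W ≤ S by simpa using le_iSup (fun h : H => h • W) 1)))
      refine Subgroup.iSup_induction (fun g : H => g • W) (C := fun w => h • w ∈ S) hv
        (fun g w hw => ?_) (by rw [smul_one]; exact one_mem _)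
        (fun a b ha hb => by rw [smul_mul']; exact mul_mem ha hb)
      refine Subgroup.mem_iSup_of_mem (h * g) ?_
      rw [mul_smul]
      exact Subgroup.smul_mem_pointwise_smul _ _ _ hw
    refine hfaith y fun v => ?_
    have hv : v ∈ S := hS ▸ Subgroup.mem_top v
    exact Subgroup.iSup_induction (fun g : H => g • W) (C := fun w => y • w = w) hv
      (fun g w hw => hy _ ⟨g, rfl⟩ w hw) (smul_one _)
      (fun a b ha hb => by rw [smul_mul', ha, hb])
  -- the group induced on the block
  set HW := MulAction.stabilizer H W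
  have hinvW : ∀ h : HW, ∀ w ∈ W, (h : H) • w ∈ W := fun h w hw => by
    have h1 := Subgroup.smul_mem_pointwise_smul w (h : H) W hw
    rwa [(h.2 : (h : H) • W = W)] at h1
  let φ : HW →* MulAut W :=
    { toFun := fun h =>
        { toFun := fun w => ⟨(h : H) • (w : N), hinvW h w w.2⟩
          invFun := fun w => ⟨(h : H)⁻¹ • (w : N), hinvW h⁻¹ w w.2⟩
          left_inv := fun w => Subtype.ext (inv_smul_smul _ _)
          right_inv := fun w => Subtype.ext (smul_inv_smul _ _)
          map_mul' := fun v w => Subtype.ext (smul_mul' _ _ _) }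
      map_one' := MulEquiv.ext fun w => Subtype.ext (one_smul _ _)
      map_mul' := fun a b => MulEquiv.ext fun w => Subtype.ext (mul_smul _ _ _) }
  set L := φ.range
  have hsmul : ∀ (h : HW) (w : W), ((φ.rangeRestrict h • w : W) : N) = (h : H) • (w : N) :=
    fun h w => rfl
  set Q := (P.subgroupOf HW).map φ.rangeRestrict with hQdef
  haveI : (P.subgroupOf HW).Normal := hPn.subgroupOf HW
  haveI : Q.Normal := Subgroup.Normal.map inferInstance _ φ.rangeRestrict_surjective
  have hQ : IsPGroup p Q :=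
    (hP.comap_of_injective HW.subtype HW.subtype_injective).map _
  haveI : Finite L := Finite.of_surjective _ φ.rangeRestrict_surjective
  have hWcop : (Nat.card W).Coprime p := hN.coprime_dvd_left (Subgroup.card_subgroup_dvd_card W)
  -- fixed points of normal elementary abelian subgroups
  have hE : ∀ E : Subgroup L, E ≤ Q → E.Normal → (∀ a ∈ E, ∀ b ∈ E, a * b = b * a) →
      (∀ a ∈ E, a ^ p = 1) → ∀ a ∈ E, a ≠ 1 →
        (∀ b ∈ E, b ∈ Subgroup.zpowers a) ∧ ∀ w : W, a • w = w → w = 1 := by
    intro E _ hEn hEab hEexp a ha ha1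
    have hext : ∀ e : L, (∀ w : W, e • w = w) → e = 1 := fun e he =>
      Subtype.ext (MulEquiv.ext fun w => he w)
    have hCE : ∀ w : W, (∀ e ∈ E, e • w = w) → w = 1 := by
      intro w hw
      by_contra hw1
      let F := fixedSub W (E : Set L)
      have hX : F.map W.subtype = W := by
        refine hmin _ (Subgroup.map_subtype_le _)
          (fun h => hw1 (Subtype.ext (Subgroup.mem_bot.mp (h ▸ ⟨w, hw, rfl⟩)))) ?_
        intro T f hT hf hprod Z hZ
        have hall : ∀ Y ∈ T, Y = F.map W.subtype := by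
          intro Y hY
          obtain ⟨h, hhW, rfl⟩ := hT Y hY
          have key : ∀ h : HW, ∀ v ∈ F.map W.subtype, (h : H) • v ∈ F.map W.subtype := by
            rintro h _ ⟨v, hv, rfl⟩
            refine ⟨φ.rangeRestrict h • v, fun e he => ?_, hsmul h v⟩
            have he' : (φ.rangeRestrict h)⁻¹ * e * φ.rangeRestrict h ∈ E := by
              simpa using hEn.conj_mem e he (φ.rangeRestrict h)⁻¹
            have := hv _ he'
            rwa [mul_smul, mul_smul, inv_smul_eq_iff] at this
          refine le_antisymm (fun v hv => ?_) (fun v hv => ?_)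
          · rw [Subgroup.mem_pointwise_smul_iff_inv_smul_mem] at hv
            simpa using key ⟨h, hhW⟩ _ hv
          · rw [Subgroup.mem_pointwise_smul_iff_inv_smul_mem]
            exact key ⟨h⁻¹, HW.inv_mem hhW⟩ _ hv
        rwa [Finset.prod_eq_single Z (fun Y hY hne => absurd ((hall Y hY).trans (hall Z hZ).symm) hne)
          (fun h => absurd hZ h)] at hprod
      refine ha1 (hext a fun v => ?_)
      obtain ⟨v', hv', hvv⟩ := hX.ge v.2
      rw [show v = v' from Subtype.ext hvv.symm]
      exact hv' a ha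
    obtain ⟨z, hz, B, hBE, -, hFne, hsplit⟩ := exists_hyperplane_fixed (W := W) hWcop E
      (fun a ha b hb => hEab a ha b hb) hEexp hCE
    set X := (fixedSub W (B : Set L)).map W.subtype
    have hBcop : ∀ h : HW, (Nat.card W).Coprime
        (Nat.card (B.map (MulAut.conj (φ.rangeRestrict h)).toMonoidHom)) := by
      intro h
      rw [Subgroup.card_map_of_injective (MulAut.conj (φ.rangeRestrict h)).injective]
      obtain ⟨k, hk⟩ := (show IsPGroup p B from fun b => ⟨1, Subtype.ext (by
        simpa using hEexp b (hBE b.2))⟩).exists_card_eq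
      rw [hk]; exact hWcop.pow_right k
    let BB : HW → Subgroup L := fun h => B.map (MulAut.conj (φ.rangeRestrict h)).toMonoidHom
    have hBBE : ∀ h, BB h ≤ E := by
      rintro h _ ⟨b, hb, rfl⟩
      exact hEn.conj_mem b (hBE hb) _
    have hBBsplit : ∀ h, ∀ e ∈ E, ∃ i : ℕ,
        e * (φ.rangeRestrict h * z * (φ.rangeRestrict h)⁻¹) ^ i ∈ BB h := by
      intro h e he
      set g := φ.rangeRestrict h
      obtain ⟨i, hi⟩ := hsplit (g⁻¹ * e * g) (by simpa using hEn.conj_mem e he g⁻¹)
      refine ⟨i, _, hi, ?_⟩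
      show g * (g⁻¹ * e * g * z ^ i) * g⁻¹ = e * (g * z * g⁻¹) ^ i
      rw [conj_pow]; group
    have htrans : ∀ (h : HW) (v : W),
        ((h : H) • (v : N) ∈ (h : H) • X) → φ.rangeRestrict h • v ∈ fixedSub W (BB h : Set L) := by
      intro h v hv
      rw [Subgroup.smul_mem_pointwise_smul_iff] at hv
      obtain ⟨v', hv', hvv⟩ := hv
      rintro _ ⟨b, hb, rfl⟩
      simp only [MulEquiv.coe_toMonoidHom, MulAut.conj_apply]
      rw [mul_smul, mul_smul, inv_smul_smul, show v = v' from Subtype.ext hvv.symm, hv' b hb]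
    have htrans' : ∀ (h : HW) (v : W), v ∈ fixedSub W (BB h : Set L) → (v : N) ∈ (h : H) • X := by
      intro h v hv
      rw [Subgroup.mem_pointwise_smul_iff_inv_smul_mem]
      refine ⟨φ.rangeRestrict h⁻¹ • v, fun b hb => ?_, hsmul h⁻¹ v⟩
      have := hv _ ⟨b, hb, rfl⟩
      simp only [MulEquiv.coe_toMonoidHom, MulAut.conj_apply, mul_smul] at this
      rw [map_inv]
      exact smul_left_cancel (φ.rangeRestrict h) (by rwa [smul_inv_smul])
    have hXind : Indep {Y | ∃ h : H, h • W = W ∧ h • X = Y} := by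
      intro T f hT hf hprod Z hZ
      have hTW : ∀ Y ∈ T, f Y ∈ W := by
        intro Y hY
        obtain ⟨h, hhW, rfl⟩ := hT Y hY
        have h1 := Subgroup.pointwise_smul_le_pointwise_smul_iff.mpr
          (Subgroup.map_subtype_le (fixedSub W (B : Set L))) (hf _ hY)
        rwa [hhW] at h1
      obtain ⟨h₀, hh₀W, rfl⟩ := hT Z hZ
      let h₀' : HW := ⟨h₀, hh₀W⟩
      let f' : {Y // Y ∈ T} → W := fun Y => ⟨f Y, hTW Y Y.2⟩
      have hprod' : ∏ Y ∈ T.attach, f' Y = 1 := by
        refine Subtype.ext ?_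
        rw [Subgroup.val_finset_prod, Subgroup.coe_one]
        exact (Finset.prod_attach T f).trans hprod
      have h1 := congrArg (normOver (BB h₀')) hprod'
      rw [map_prod, map_one, Finset.prod_eq_single ⟨_, hZ⟩] at h1
      · have hfx : f' ⟨_, hZ⟩ ∈ fixedSub W (BB h₀' : Set L) := by
          have hm : h₀⁻¹ • f (h₀ • X) ∈ W := hinvW ⟨h₀⁻¹, HW.inv_mem hh₀W⟩ _ (hTW _ hZ)
          have := htrans h₀' ⟨_, hm⟩ (by
            show h₀ • (h₀⁻¹ • f (h₀ • X)) ∈ h₀ • X
            rw [smul_inv_smul]; exact hf _ hZ)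
          convert this using 1
          exact Subtype.ext (smul_inv_smul _ _).symm
        rw [normOver_of_fixed _ hfx] at h1
        exact congrArg Subtype.val (eq_one_of_pow_eq_one (hBcop h₀') h1)
      · rintro ⟨Y, hY⟩ - hne
        obtain ⟨h, hhW, rfl⟩ := hT Y hY
        let h' : HW := ⟨h, hhW⟩
        have hfx : f' ⟨_, hY⟩ ∈ fixedSub W (BB h' : Set L) := by
          have hm : h⁻¹ • f (h • X) ∈ W := hinvW ⟨h⁻¹, HW.inv_mem hhW⟩ _ (hTW _ hY)
          have := htrans h' ⟨_, hm⟩ (by
            show h • (h⁻¹ • f (h • X)) ∈ h • X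
            rw [smul_inv_smul]; exact hf _ hY)
          convert this using 1
          exact Subtype.ext (smul_inv_smul _ _).symm
        have hsame : fixedSub W (BB h' : Set L) ≠ fixedSub W (BB h₀' : Set L) := by
          intro he
          apply hne
          refine Subtype.ext ?_
          have key : ∀ (a b : HW), fixedSub W (BB a : Set L) ≤ fixedSub W (BB b : Set L) →
              (a : H) • X ≤ (b : H) • X := by
            intro a b hab v hv
            have hvW : v ∈ W := by
              have h1 := Subgroup.pointwise_smul_le_pointwise_smul_iff.mpr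
                (Subgroup.map_subtype_le (fixedSub W (B : Set L))) hv
              rwa [show (a : H) • W = W from a.2] at h1
            have hvm : (a : H)⁻¹ • v ∈ W := hinvW a⁻¹ _ hvW
            have h2 := htrans a ⟨_, hvm⟩ (by rw [smul_inv_smul]; exact hv)
            have h3 := htrans' b _ (hab h2)
            rwa [hsmul, smul_inv_smul] at h3
          exact le_antisymm (key h' h₀' he.le) (key h₀' h' he.ge)
        -- an element of the first kernel outside the second
        obtain ⟨c, hc, hc0⟩ : ∃ c ∈ BB h', c ∉ BB h₀' := by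
          by_contra hcon
          push Not at hcon
          have heq : BB h' = BB h₀' := Subgroup.eq_of_le_of_card_ge hcon (by
            simp only [BB]
            rw [Subgroup.card_map_of_injective (MulAut.conj (φ.rangeRestrict h₀')).injective,
              Subgroup.card_map_of_injective (MulAut.conj (φ.rangeRestrict h')).injective])
          exact hsame (by rw [heq])
        refine normOver_eq_one _ (fun b hb => hEab c (hBBE _ hc) b (hBBE _ hb)) (hfx c hc)
          fun v hv hcv => hCE v fun e he => ?_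
        -- the two kernels generate `E`
        set ζ := φ.rangeRestrict h₀' * z * (φ.rangeRestrict h₀')⁻¹ with hζ
        have hζp : ζ ^ p = 1 := by rw [hζ, conj_pow, hEexp z hz]; group
        obtain ⟨i, hi⟩ := hBBsplit h₀' c (hBBE _ hc)
        have hζi : ζ ^ i • v = v := by
          have h1 := hv _ hi
          rw [← hζ, mul_smul] at h1
          exact smul_left_cancel c (h1.trans hcv.symm)
        have hnd : ¬ p ∣ i := fun hd => by
          obtain ⟨m, rfl⟩ := hd
          rw [← hζ, pow_mul, hζp, one_pow, mul_one] at hi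
          exact hc0 hi
        obtain ⟨m, hm⟩ := exists_pow_eq_self_of_coprime (x := ζ) (n := i)
          ((Nat.Coprime.coprime_dvd_right (orderOf_dvd_of_pow_eq_one hζp)
            ((hp.out.coprime_iff_not_dvd.mpr hnd).symm)))
        have hζv : ζ • v = v := by
          rw [← hm]; exact (MulAction.stabilizer L v).pow_mem hζi m
        obtain ⟨j, hj⟩ := hBBsplit h₀' e he
        have h1 := hv _ hj
        rwa [← hζ, mul_smul, (MulAction.stabilizer L v).pow_mem hζv j] at h1
      · intro h
        exact absurd (Finset.mem_attach _ _) h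
    have hXW : X = W := hmin X (Subgroup.map_subtype_le _)
      (fun h => hFne ((Subgroup.map_eq_bot_iff_of_injective _ W.subtype_injective).mp h)) hXind
    have hB1 : ∀ b ∈ B, b = 1 := fun b hb => hext b fun v => by
      obtain ⟨v', hv', hvv⟩ := hXW.ge v.2
      rw [show v = v' from Subtype.ext hvv.symm]
      exact hv' b hb
    have hgen : ∀ e ∈ E, ∃ i : ℕ, e * z ^ i = 1 := fun e he =>
      let ⟨i, hi⟩ := hsplit e he; ⟨i, hB1 _ hi⟩
    have hzgen : ∀ e ∈ E, e ∈ Subgroup.zpowers z := fun e he => by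
      obtain ⟨i, hi⟩ := hgen e he
      rw [eq_inv_of_mul_eq_one_left hi]
      exact inv_mem (pow_mem (Subgroup.mem_zpowers z) i)
    have haE : ∀ b ∈ E, b ∈ Subgroup.zpowers a := fun b hb => by
      obtain ⟨i, -, hi⟩ := exists_pow_eq (hEexp z hz) (hzgen a ha) ha1 (hzgen b hb)
      exact hi ▸ pow_mem (Subgroup.mem_zpowers a) i
    refine ⟨haE, fun w hw => hCE w fun e he => ?_⟩
    obtain ⟨k, rfl⟩ := Subgroup.mem_zpowers_iff.mp (haE e he)
    exact (MulAction.stabilizer L w).zpow_mem hw k
  obtain ⟨w₁, hw₁⟩ := exists_regular_vector hp2 Q hQ hWcop hE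
  obtain ⟨w₀, hw₀1, hw₀⟩ : ∃ w : W, w ≠ 1 ∧ ∀ q ∈ Q, q • w = w → q = 1 := by
    by_cases hw : w₁ = 1
    · obtain ⟨w, hw'⟩ := exists_ne (1 : W)
      exact ⟨w, hw', fun q hq _ => hw₁ q hq (by rw [hw, smul_one])⟩
    · exact ⟨w₁, hw, hw₁⟩
  -- translates of the regular vector
  set O := MulAction.orbit H W
  have : ∀ B : Subgroup N, ∃ g : H, B ∈ O → g • W = B := fun B => by
    by_cases hB : B ∈ O
    · obtain ⟨g, hg⟩ := hB; exact ⟨g, fun _ => hg⟩
    · exact ⟨1, fun h => absurd h hB⟩
  choose g hg using this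
  let w : Subgroup N → N := fun B => g B • (w₀ : N)
  have hwmem : ∀ B ∈ O, w B ∈ B := fun B hB =>
    (by
      have h1 := Subgroup.smul_mem_pointwise_smul (w₀ : N) (g B) W w₀.2
      rwa [hg B hB] at h1)
  have hwne : ∀ B, w B ≠ 1 := fun B h => hw₀1 (Subtype.ext (by rwa [smul_eq_one'] at h))
  let OF : Finset (Subgroup N) := (Set.toFinite O).toFinset
  have hOF : ∀ B, B ∈ OF ↔ B ∈ O := fun B => Set.Finite.mem_toFinset _
  have hOinv : ∀ (y : H) {B}, B ∈ O → y • B ∈ O := fun y B ⟨h, hh⟩ =>
    ⟨y * h, by rw [← hh]; exact mul_smul y h W⟩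
  have hregular : ∀ y ∈ P, (∀ B ∈ O, y • B = B) → (∀ B ∈ O, y • w B = w B) → y = 1 := by
    intro y hy hyB hyw
    refine hfix y fun B hB v hv => ?_
    have hBW := hg B hB
    have hc : (g B)⁻¹ * y * g B ∈ HW := by
      show ((g B)⁻¹ * y * g B) • W = W
      rw [mul_smul, mul_smul, hBW, hyB B hB, inv_smul_eq_iff, hBW]
    let c : HW := ⟨_, hc⟩
    have hcP : (c : H) ∈ P := by simpa [c] using hPn.conj_mem y hy (g B)⁻¹
    have hcQ : φ.rangeRestrict c ∈ Q := ⟨c, hcP, rfl⟩
    have h1 : φ.rangeRestrict c • w₀ = w₀ := Subtype.ext (by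
      rw [hsmul]
      show ((g B)⁻¹ * y * g B) • (w₀ : N) = w₀
      rw [mul_smul, mul_smul, inv_smul_eq_iff]
      exact hyw B hB)
    have h2 := hw₀ _ hcQ h1
    have hv' : (g B)⁻¹ • v ∈ W := by
      rw [← Subgroup.mem_pointwise_smul_iff_inv_smul_mem, hBW]; exact hv
    have h3 := hsmul c ⟨_, hv'⟩
    rw [h2, one_smul] at h3
    have h4 : (g B)⁻¹ • v = ((g B)⁻¹ * y * g B) • ((g B)⁻¹ • v) := h3
    rw [mul_smul, mul_smul, smul_inv_smul] at h4
    exact (smul_left_cancel _ h4).symm
  have hconjker : ∀ h : H, (∀ B ∈ O, (h * x * h⁻¹) • B = B) → ∀ B ∈ O, x • B = B := by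
    intro h hh B hB
    have h1 := hh _ (hOinv h hB)
    rw [mul_smul, mul_smul, inv_smul_smul] at h1
    exact smul_left_cancel h h1
  by_cases hker : ∀ B ∈ O, x • B = B
  · refine ⟨∏ B ∈ OF, w B, fun h hv => hx1 ?_⟩
    set y := h * x * h⁻¹ with hy
    have hyB : ∀ B ∈ O, y • B = B := fun B hB => by
      rw [hy, mul_smul, mul_smul, hker _ (hOinv h⁻¹ hB), smul_inv_smul]
    have hmem : ∀ B ∈ OF, y • w B * (w B)⁻¹ ∈ B := fun B hB => by
      refine mul_mem ?_ (inv_mem (hwmem B ((hOF B).mp hB)))
      have h1 := Subgroup.smul_mem_pointwise_smul (w B) y B (hwmem B ((hOF B).mp hB))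
      rwa [hyB B ((hOF B).mp hB)] at h1
    have hyone : y = 1 := by
      refine hregular y (hPn.conj_mem x hx h) hyB fun B hB => ?_
      refine mul_inv_eq_one.mp (hWind OF (fun B => y • w B * (w B)⁻¹) (fun B hB => (hOF B).mp hB)
        hmem ?_ B ((hOF B).mpr hB))
      rw [Finset.prod_mul_distrib, ← Finset.smul_prod', Finset.prod_inv_distrib, hv, mul_inv_cancel]
    rw [hy] at hyone
    simpa using hyone
  · push Not at hker
    obtain ⟨S, hSsub, hS⟩ := exists_breaking_subset (α := Subgroup N) hp2 hP OF.card (⊤ : Subgroup P)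
      OF rfl (fun y _ B hB => (hOF _).mpr (hOinv (y : H) ((hOF B).mp hB)))
    refine ⟨∏ B ∈ S, w B, fun h hv => ?_⟩
    set y := h * x * h⁻¹ with hy
    have hyP : y ∈ P := hPn.conj_mem x hx h
    obtain ⟨B, hB, hxB⟩ := hker
    refine hxB (hconjker h (fun B hB => ?_) B hB)
    refine hS ⟨y, hyP⟩ (Subgroup.mem_top _) (fun C hC => ?_) B ((hOF B).mpr hB)
    show y • C ∈ S ↔ C ∈ S
    let F : Subgroup N → N := fun D =>
      (if y⁻¹ • D ∈ S then y • w (y⁻¹ • D) else 1) * (if D ∈ S then w D else 1)⁻¹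
    have hF := hWind OF F (fun D hD => (hOF D).mp hD) (fun D hD => by
      refine mul_mem ?_ (inv_mem ?_)
      · split_ifs with h1
        · have h2 := Subgroup.smul_mem_pointwise_smul _ y _ (hwmem _ (hOinv y⁻¹ ((hOF D).mp hD)))
          rwa [smul_inv_smul] at h2
        · exact one_mem _
      · split_ifs
        · exact hwmem D ((hOF D).mp hD)
        · exact one_mem _) ?_ (y • C) ((hOF _).mpr (hOinv y ((hOF C).mp hC)))
    · simp only [F, inv_smul_smul] at hF
      by_cases h1 : C ∈ S <;> by_cases h2 : y • C ∈ S <;> simp only [h1, h2, if_true, if_false] at hF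
      · exact iff_of_true h2 h1
      · rw [inv_one, mul_one, smul_eq_one'] at hF
        exact absurd hF (hwne C)
      · rw [one_mul, inv_eq_one] at hF
        exact absurd hF (hwne _)
      · exact iff_of_false h2 h1
    · simp only [F]
      rw [Finset.prod_mul_distrib, Finset.prod_inv_distrib, ← Finset.prod_filter,
        ← Finset.prod_filter, show OF.filter (fun D => D ∈ S) = S by
          rw [Finset.filter_mem_eq_inter]; exact Finset.inter_eq_right.mpr hSsub,
        show OF.filter (fun D => y⁻¹ • D ∈ S) = S.image (fun D => y • D) by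
          ext D
          simp only [Finset.mem_filter, Finset.mem_image]
          exact ⟨fun hD => ⟨_, hD.2, smul_inv_smul _ _⟩, fun ⟨E, hE, hED⟩ => hED ▸
            ⟨(hOF _).mpr (hOinv y ((hOF E).mp (hSsub hE))), by rwa [inv_smul_smul]⟩⟩,
        Finset.prod_image ((MulAction.injective y).injOn)]
      simp only [inv_smul_smul]
      rw [← Finset.smul_prod', hv, mul_inv_cancel]

end Cfsg.Agent.RegOrbit23
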