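import Mathlib.GroupTheory.Commutator.Basic
import Mathlib.GroupTheory.Sylow

/-!
# Duality for a commutator pairing with values in a central subgroup of prime order
-/

set_option autoImplicit false
set_option linter.unusedSectionVars false

namespace Cfsg.Agent.RegOrbit23

variable {L : Type*} [Group L] [Finite L] {p : ℕ} [hp : Fact p.Prime]

/-- Every nontrivial element of a group of prime order generates it. -/
theorem exists_pow_eq {z₀ e f : L} (hz : z₀ ^ p = 1) (he : e ∈ Subgroup.zpowers z₀) (he1 : e ≠ 1)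
    (hf : f ∈ Subgroup.zpowers z₀) : ∃ i : ℕ, i < p ∧ e ^ i = f := by
  classical
  have hz1 : z₀ ≠ 1 := by
    rintro rfl
    rw [Subgroup.zpowers_one_eq_bot, Subgroup.mem_bot] at he
    exact he1 he
  have hep : e ^ p = 1 := by
    obtain ⟨k, rfl⟩ := Subgroup.mem_zpowers_iff.mp he
    rw [← zpow_natCast, ← zpow_mul, mul_comm, zpow_mul, zpow_natCast, hz, one_zpow]
  have heq : Subgroup.zpowers e = Subgroup.zpowers z₀ := by
    refine Subgroup.eq_of_le_of_card_ge (Subgroup.zpowers_le.mpr he) ?_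
    rw [Nat.card_zpowers, Nat.card_zpowers, orderOf_eq_prime hep he1, orderOf_eq_prime hz hz1]
  rw [← heq, mem_zpowers_iff_mem_range_orderOf, orderOf_eq_prime hep he1] at hf
  obtain ⟨i, hi, rfl⟩ := Finset.mem_image.mp hf
  exact ⟨i, Finset.mem_range.mp hi, rfl⟩

/-- Powers of `w` act on `a` by powers of the commutator. -/
theorem conj_pow_mul {a w c : L} (hc : w * a * w⁻¹ = c * a) (hcw : Commute w c) (i : ℕ) :
    w ^ i * a * (w ^ i)⁻¹ = c ^ i * a := by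
  induction i with
  | zero => simp
  | succ i ih =>
    rw [pow_succ', mul_inv_rev, show w * w ^ i * a * ((w ^ i)⁻¹ * w⁻¹) = w * (w ^ i * a * (w ^ i)⁻¹) * w⁻¹ by group, ih]
    rw [show w * (c ^ i * a) * w⁻¹ = (w * c ^ i * w⁻¹) * (w * a * w⁻¹) by group, hc,
      (hcw.pow_right i).eq, mul_inv_cancel_right, ← mul_assoc, ← pow_succ, pow_succ']

/-- Data for the duality. -/
structure Pairing (Q U : Subgroup L) (z₀ : L) (p : ℕ) : Prop where
  le : U ≤ Q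
  pow : ∀ u ∈ U, u ^ p = 1
  mem : z₀ ∈ U
  ne_one : z₀ ≠ 1
  central : ∀ q ∈ Q, q * z₀ = z₀ * q
  comm : ∀ u ∈ U, ∀ q ∈ Q, q * u * q⁻¹ * u⁻¹ ∈ Subgroup.zpowers z₀
  nondeg : ∀ u ∈ U, (∀ w ∈ U, w * u = u * w) → u ∈ Subgroup.zpowers z₀

theorem Pairing.z_pow {Q U : Subgroup L} {z₀ : L} (h : Pairing Q U z₀ p) : z₀ ^ p = 1 :=
  h.pow _ h.mem

/-- The duality: double centralizers, orders, and inner realisation. -/
theorem Pairing.dual {Q U : Subgroup L} {z₀ : L} (h : Pairing Q U z₀ p) (T : Subgroup L)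
    (hzT : z₀ ∈ T) (hTU : T ≤ U) :
    (∀ b ∈ U, (∀ w ∈ U, (∀ s ∈ T, w * s = s * w) → w * b = b * w) → b ∈ T) ∧
      Nat.card ↥(U ⊓ Subgroup.centralizer (T : Set L)) * Nat.card T = Nat.card U * p ∧
      ∀ q ∈ Q, ∃ u ∈ U, ∀ s ∈ T, (q * u⁻¹) * s = s * (q * u⁻¹) := by
  classical
  let P : Subgroup L → Prop := fun T =>
    (∀ b ∈ U, (∀ w ∈ U, (∀ s ∈ T, w * s = s * w) → w * b = b * w) → b ∈ T) ∧
      Nat.card ↥(U ⊓ Subgroup.centralizer (T : Set L)) * Nat.card T = Nat.card U * p ∧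
      ∀ q ∈ Q, ∃ u ∈ U, ∀ s ∈ T, (q * u⁻¹) * s = s * (q * u⁻¹)
  show P T
  have hzc : ∀ q ∈ Q, ∀ s ∈ Subgroup.zpowers z₀, q * s = s * q := by
    intro q hq s hs
    obtain ⟨k, rfl⟩ := Subgroup.mem_zpowers_iff.mp hs
    exact (Commute.zpow_right (h.central q hq) k).eq
  have hbase : P (Subgroup.zpowers z₀) := by
    refine ⟨fun b hb hall => h.nondeg b hb fun w hw =>
      hall w hw fun s hs => hzc w (h.le hw) s hs, ?_, fun q hq => ⟨1, one_mem U, fun s hs => by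
        rw [inv_one, mul_one]; exact hzc q hq s hs⟩⟩
    rw [inf_eq_left.mpr (fun u hu => Subgroup.mem_centralizer_iff.mpr fun s hs =>
      (hzc u (h.le hu) s hs).symm), Nat.card_zpowers, orderOf_eq_prime h.z_pow h.ne_one]
  obtain ⟨S, ⟨hzS, hST, hS1, hS2, hS3⟩, hSmax⟩ := Set.Finite.exists_maximal
    (s := {S : Subgroup L | z₀ ∈ S ∧ S ≤ T ∧ P S}) (Set.toFinite _)
    ⟨_, Subgroup.mem_zpowers z₀, Subgroup.zpowers_le.mpr hzT, hbase⟩
  by_contra hPT
  have hne : S ≠ T := fun e => hPT (e ▸ ⟨hS1, hS2, hS3⟩)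
  obtain ⟨a, haT, haS⟩ := SetLike.not_le_iff_exists.mp fun hle => hne (le_antisymm hST hle)
  have haU := hTU haT
  obtain ⟨w₀, hw₀, hw₀S, hw₀a⟩ : ∃ w ∈ U, (∀ s ∈ S, w * s = s * w) ∧ w * a ≠ a * w := by
    by_contra hcon
    push Not at hcon
    exact haS (hS1 a haU hcon)
  set c₀ := w₀ * a * w₀⁻¹ * a⁻¹ with hc₀
  have hc₀z : c₀ ∈ Subgroup.zpowers z₀ := h.comm a haU w₀ (h.le hw₀)
  have hc₀1 : c₀ ≠ 1 := fun e => hw₀a (by
    rw [hc₀, mul_inv_eq_one, mul_inv_eq_iff_eq_mul] at e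
    exact e)
  have hw₀conj : ∀ i : ℕ, w₀ ^ i * a * (w₀ ^ i)⁻¹ = c₀ ^ i * a :=
    conj_pow_mul (by rw [hc₀, inv_mul_cancel_right]) (hzc w₀ (h.le hw₀) c₀ hc₀z)
  have hpow_c : c₀ ^ p = 1 := by
    obtain ⟨k, hk⟩ := Subgroup.mem_zpowers_iff.mp hc₀z
    rw [← hk, ← zpow_natCast, ← zpow_mul, mul_comm, zpow_mul, zpow_natCast, h.z_pow, one_zpow]
  have hiff : ∀ g : L, g * a * g⁻¹ * a⁻¹ = 1 ↔ g * a = a * g := fun g => by
    rw [mul_inv_eq_one, mul_inv_eq_iff_eq_mul]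
  -- correcting by powers of `w₀`
  have hfixa : ∀ g ∈ Q, ∃ i < p, ∀ j, (i + j) % p = 0 →
      (g * w₀ ^ j) * a = a * (g * w₀ ^ j) := by
    intro g hg
    obtain ⟨i, hi, hie⟩ := exists_pow_eq h.z_pow hc₀z hc₀1 (h.comm a haU g hg)
    refine ⟨i, hi, fun j hj => (hiff _).mp ?_⟩
    have hcj : c₀ ^ j ∈ Subgroup.zpowers z₀ := pow_mem hc₀z _
    rw [show g * w₀ ^ j * a * (g * w₀ ^ j)⁻¹ * a⁻¹ = g * (w₀ ^ j * a * (w₀ ^ j)⁻¹) * g⁻¹ * a⁻¹ by group,
      hw₀conj, ← mul_assoc, hzc g hg _ hcj, show c₀ ^ j * g * a * g⁻¹ * a⁻¹ = c₀ ^ j * (g * a * g⁻¹ * a⁻¹) by group,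
      ← hie, ← pow_add, add_comm, pow_eq_pow_mod _ hpow_c, hj, pow_zero]
  have hconjS : ∀ i : ℤ, ∀ s ∈ S, a ^ i * s * (a ^ i)⁻¹ ∈ S := by
    intro i s hs
    have hmem : a ^ i * s * (a ^ i)⁻¹ * s⁻¹ ∈ S :=
      (Subgroup.zpowers_le.mpr hzS) (h.comm s (hTU (hST hs)) (a ^ i) (h.le (zpow_mem haU i)))
    simpa using mul_mem hmem hs
  let S' : Subgroup L :=
    { carrier := {g | ∃ s ∈ S, ∃ i : ℤ, g = s * a ^ i}
      one_mem' := ⟨1, one_mem S, 0, by simp⟩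
      mul_mem' := by
        rintro _ _ ⟨s, hs, i, rfl⟩ ⟨t, ht, j, rfl⟩
        exact ⟨s * (a ^ i * t * (a ^ i)⁻¹), mul_mem hs (hconjS i t ht), i + j, by
          rw [zpow_add]; group⟩
      inv_mem' := by
        rintro _ ⟨s, hs, i, rfl⟩
        exact ⟨_, hconjS (-i) _ (inv_mem hs), -i, by rw [zpow_neg]; group⟩ }
  have hSS' : S ≤ S' := fun s hs => ⟨s, hs, 0, by simp⟩
  have haS' : a ∈ S' := ⟨1, one_mem S, 1, by simp⟩
  have hS'T : S' ≤ T := by
    rintro _ ⟨s, hs, i, rfl⟩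
    exact mul_mem (hST hs) (zpow_mem haT i)
  have hCS' : ∀ w : L, (∀ s ∈ S', w * s = s * w) ↔ (∀ s ∈ S, w * s = s * w) ∧ w * a = a * w := by
    refine fun w => ⟨fun hw => ⟨fun s hs => hw s (hSS' hs), hw a haS'⟩, ?_⟩
    rintro ⟨h1, h2⟩ _ ⟨s, hs, i, rfl⟩
    exact (Commute.mul_right (h1 s hs) (Commute.zpow_right h2 i)).eq
  have hS'mem : ∀ g : L, g ∈ S' → ∃ i : Fin p, g * (a ^ (i : ℕ))⁻¹ ∈ S := by
    rintro _ ⟨s, hs, i, rfl⟩
    have hpos : (0 : ℤ) < p := by exact_mod_cast hp.out.pos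
    refine ⟨⟨(i % p).toNat, by have := Int.emod_lt_of_pos i hpos; omega⟩, ?_⟩
    have : a ^ ((i % (p : ℤ)).toNat) = a ^ i := by
      rw [← zpow_natCast, Int.toNat_of_nonneg (Int.emod_nonneg _ hpos.ne')]
      exact (zpow_eq_zpow_emod' i (h.pow a haU)).symm
    simpa [this] using hs
  have hindep : ∀ i : ℕ, i < p → a ^ i ∈ S → i = 0 := by
    intro i hi hai
    by_contra h0
    obtain ⟨m, hm⟩ := exists_pow_eq_self_of_coprime (x := a) (n := i)
      ((Nat.Coprime.coprime_dvd_right (orderOf_dvd_of_pow_eq_one (h.pow a haU))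
        (Nat.coprime_of_lt_prime h0 hi hp.out).symm))
    exact haS (hm ▸ pow_mem hai m)
  refine haS ((hSmax (y := S') ⟨hSS' hzS, hS'T, ?_, ?_, ?_⟩ hSS') haS')
  · -- double centralizer
    intro b hb hall
    obtain ⟨i, hi, hie⟩ := exists_pow_eq h.z_pow hc₀z hc₀1 (h.comm b hb w₀ (h.le hw₀))
    set b' := b * (a ^ i)⁻¹
    have hb' : b' ∈ U := mul_mem hb (inv_mem (pow_mem haU i))
    have hfix0 : w₀ * b' = b' * w₀ := by
      have hca : c₀ * a = w₀ * a * w₀⁻¹ := by rw [hc₀, inv_mul_cancel_right]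
      have h1 : w₀ * a ^ i * w₀⁻¹ = c₀ ^ i * a ^ i := by
        rw [← conj_pow, ← hca, Commute.mul_pow (hzc a (h.le haU) c₀ hc₀z).symm]
      have h2 : w₀ * b * w₀⁻¹ = c₀ ^ i * b := by rw [hie, inv_mul_cancel_right]
      refine mul_inv_eq_iff_eq_mul.mp ?_
      show w₀ * (b * (a ^ i)⁻¹) * w₀⁻¹ = b * (a ^ i)⁻¹
      rw [show w₀ * (b * (a ^ i)⁻¹) * w₀⁻¹ = (w₀ * b * w₀⁻¹) * (w₀ * a ^ i * w₀⁻¹)⁻¹ by group, h1, h2,
        mul_inv_rev, ← mul_assoc, mul_assoc (c₀ ^ i) b,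
        ← hzc (b * (a ^ i)⁻¹) (h.le hb') _ (pow_mem hc₀z i), mul_inv_cancel_right]
    have hbS : b' ∈ S := hS1 b' hb' fun w hw hwS => by
      obtain ⟨j, hj, hje⟩ := hfixa w (h.le hw)
      set k := p - j
      have hwk : (w * w₀ ^ k) * a = a * (w * w₀ ^ k) :=
        hje k (by rw [Nat.add_sub_cancel' hj.le, Nat.mod_self])
      have h1 : (w * w₀ ^ k) * b' = b' * (w * w₀ ^ k) := by
        refine (Commute.mul_right (hall _ (mul_mem hw (pow_mem hw₀ k)) ((hCS' _).mpr ⟨fun s hs =>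
          (Commute.mul_left (hwS s hs) (Commute.pow_left (hw₀S s hs) k)).eq, hwk⟩))
          ((Commute.pow_right hwk i).inv_right)).eq
      have h2 : Commute (w₀ ^ k)⁻¹ b' := ((Commute.pow_left hfix0 k)).inv_left
      have h3 := Commute.mul_left (show Commute (w * w₀ ^ k) b' from h1) h2
      rw [mul_inv_cancel_right] at h3
      exact h3.eq
    exact ⟨b', hbS, (i : ℤ), by simp [b']⟩
  · -- orders
    let CS := U ⊓ Subgroup.centralizer (S : Set L)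
    let CS' := U ⊓ Subgroup.centralizer (S' : Set L)
    have hmemC : ∀ (T : Subgroup L) (w : L),
        w ∈ U ⊓ Subgroup.centralizer (T : Set L) ↔ w ∈ U ∧ ∀ s ∈ T, w * s = s * w := fun T w =>
      ⟨fun hw => ⟨hw.1, fun s hs => (Subgroup.mem_centralizer_iff.mp hw.2 s hs).symm⟩,
        fun hw => ⟨hw.1, Subgroup.mem_centralizer_iff.mpr fun s hs => (hw.2 s hs).symm⟩⟩
    have hle : CS' ≤ CS := fun w hw => (hmemC S w).mpr
      ⟨hw.1, fun s hs => ((hmemC S' w).mp hw).2 s (hSS' hs)⟩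
    have hw₀C : w₀ ∈ CS := (hmemC S w₀).mpr ⟨hw₀, hw₀S⟩
    have e1 : Nat.card CS = p * Nat.card CS' := by
      rw [← Nat.card_fin p, ← Nat.card_prod]
      refine (Nat.card_congr (Equiv.ofBijective (fun x : Fin p × CS' =>
        (⟨(x.2 : L) * w₀ ^ (x.1 : ℕ), mul_mem (hle x.2.2) (pow_mem hw₀C _)⟩ : CS)) ⟨?_, ?_⟩)).symm
      · rintro ⟨i, u⟩ ⟨j, v⟩ huv
        have huv' : (u : L) * w₀ ^ (i : ℕ) = v * w₀ ^ (j : ℕ) := congrArg Subtype.val huv
        have hc : c₀ ^ (i : ℕ) = c₀ ^ (j : ℕ) := by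
          have h3 : (u : L) * w₀ ^ (i : ℕ) * a * ((u : L) * w₀ ^ (i : ℕ))⁻¹ * a⁻¹ =
              (v : L) * w₀ ^ (j : ℕ) * a * ((v : L) * w₀ ^ (j : ℕ))⁻¹ * a⁻¹ := by rw [huv']
          have hcomp : ∀ (u : CS') (i : ℕ), (u : L) * w₀ ^ i * a * ((u : L) * w₀ ^ i)⁻¹ * a⁻¹ = c₀ ^ i := by
            intro u i
            rw [show (u : L) * w₀ ^ i * a * ((u : L) * w₀ ^ i)⁻¹ * a⁻¹ =
              (u : L) * (w₀ ^ i * a * (w₀ ^ i)⁻¹) * (u : L)⁻¹ * a⁻¹ by group, hw₀conj, ← mul_assoc,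
              hzc _ (h.le u.2.1) _ (pow_mem hc₀z i), mul_assoc (c₀ ^ i),
              ((hCS' _).mp ((hmemC S' _).mp u.2).2).2]
            group
          rwa [hcomp, hcomp] at h3
        have hij : i = j := by
          apply Fin.ext
          have := pow_inj_mod.mp hc
          rwa [orderOf_eq_prime hpow_c hc₀1, Nat.mod_eq_of_lt i.isLt, Nat.mod_eq_of_lt j.isLt] at this
        subst hij
        exact Prod.ext rfl (Subtype.ext (mul_right_cancel huv'))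
      · rintro ⟨w, hw⟩
        obtain ⟨j, hj, hje⟩ := hfixa w (h.le hw.1)
        set k := p - j with hk
        have hwk := hje k (by rw [Nat.add_sub_cancel' hj.le, Nat.mod_self])
        refine ⟨(⟨j, hj⟩, ⟨w * w₀ ^ k, (hmemC S' _).mpr ⟨mul_mem hw.1 (pow_mem hw₀ k),
          (hCS' _).mpr ⟨fun s hs => (Commute.mul_left (((hmemC S w).mp hw).2 s hs)
            (Commute.pow_left (hw₀S s hs) k)).eq, hwk⟩⟩⟩), Subtype.ext ?_⟩
        show w * w₀ ^ k * w₀ ^ j = w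
        rw [mul_assoc, ← pow_add, hk, Nat.sub_add_cancel hj.le, h.pow w₀ hw₀, mul_one]
    have e2 : Nat.card S' = p * Nat.card S := by
      rw [← Nat.card_fin p, ← Nat.card_prod]
      refine (Nat.card_congr (Equiv.ofBijective (fun x : Fin p × S =>
        (⟨(x.2 : L) * a ^ (x.1 : ℕ), mul_mem (hSS' x.2.2) (pow_mem haS' _)⟩ : S')) ⟨?_, ?_⟩)).symm
      · rintro ⟨i, u⟩ ⟨j, v⟩ huv
        have huv' : (u : L) * a ^ (i : ℕ) = v * a ^ (j : ℕ) := congrArg Subtype.val huv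
        have hij : i = j := by
          rcases le_total (i : ℕ) (j : ℕ) with hle' | hle'
          · have : a ^ ((j : ℕ) - i) ∈ S := by
              rw [show a ^ ((j : ℕ) - i) = (v : L)⁻¹ * u by
                rw [pow_sub _ hle', eq_inv_mul_iff_mul_eq, ← mul_assoc, ← huv', mul_inv_cancel_right]]
              exact mul_mem (inv_mem v.2) u.2
            have := hindep _ (by omega) this
            exact Fin.ext (by omega)
          · have : a ^ ((i : ℕ) - j) ∈ S := by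
              rw [show a ^ ((i : ℕ) - j) = (u : L)⁻¹ * v by
                rw [pow_sub _ hle', eq_inv_mul_iff_mul_eq, ← mul_assoc, huv', mul_inv_cancel_right]]
              exact mul_mem (inv_mem u.2) v.2
            have := hindep _ (by omega) this
            exact Fin.ext (by omega)
        subst hij
        exact Prod.ext rfl (Subtype.ext (mul_right_cancel huv'))
      · rintro ⟨g, hg⟩
        obtain ⟨i, hi⟩ := hS'mem g hg
        exact ⟨(i, ⟨_, hi⟩), Subtype.ext (inv_mul_cancel_right _ _)⟩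
    have hS2' : Nat.card CS * Nat.card S = Nat.card U * p := hS2
    rw [e1] at hS2'
    show Nat.card CS' * Nat.card S' = Nat.card U * p
    rw [e2, ← hS2']
    ring
  · -- inner realisation
    intro q hq
    obtain ⟨u, hu, hus⟩ := hS3 q hq
    obtain ⟨j, hj, hje⟩ := hfixa _ (mul_mem hq (inv_mem (h.le hu)))
    set k := p - j
    have hwk := hje k (by rw [Nat.add_sub_cancel' hj.le, Nat.mod_self])
    refine ⟨(w₀ ^ k)⁻¹ * u, mul_mem (inv_mem (pow_mem hw₀ k)) hu, (hCS' _).mpr ⟨fun s hs => ?_, ?_⟩⟩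
    · rw [mul_inv_rev, inv_inv, ← mul_assoc q]
      exact (Commute.mul_left (hus s hs) (Commute.pow_left (hw₀S s hs) k)).eq
    · rwa [mul_inv_rev, inv_inv, ← mul_assoc q]

end Cfsg.Agent.RegOrbit23
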