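import Mathlib.GroupTheory.Sylow
import Mathlib.GroupTheory.Nilpotent

/-!
# A subset broken by every moving element of a p-group, p odd
-/

set_option autoImplicit false
set_option linter.unusedSectionVars false

namespace Cfsg.Agent.RegOrbit23

variable {P α : Type*} [Group P] [Finite P] [MulAction P α]

open scoped Classical in
/-- For a `p`-group of odd order acting on a finite set there is a subset whose stabilizer acts
trivially. -/
theorem exists_breaking_subset {p : ℕ} [hp : Fact p.Prime] (hp2 : p ≠ 2) (hP : IsPGroup p P) :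
    ∀ (n : ℕ) (M : Subgroup P) (Y : Finset α), Y.card = n → (∀ x ∈ M, ∀ y ∈ Y, x • y ∈ Y) →
      ∃ S ⊆ Y, ∀ x ∈ M, (∀ y ∈ Y, (x • y ∈ S ↔ y ∈ S)) → ∀ y ∈ Y, x • y = y := by
  intro n
  induction n using Nat.strong_induction_on with
  | _ n ih =>
  intro M Y hn hY
  rcases Y.eq_empty_or_nonempty with rfl | ⟨y₀, hy₀⟩
  · exact ⟨∅, subset_rfl, fun x _ _ y hy => absurd hy (by simp)⟩
  set O := Y.filter (fun y => ∃ x ∈ M, x • y₀ = y) with hOdef
  have hOmem : ∀ y, y ∈ O ↔ ∃ x ∈ M, x • y₀ = y := by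
    intro y
    rw [hOdef, Finset.mem_filter]
    exact ⟨fun h => h.2, fun ⟨x, hx, h⟩ => ⟨h ▸ hY x hx y₀ hy₀, x, hx, h⟩⟩
  have hOinv : ∀ x ∈ M, ∀ y ∈ O, x • y ∈ O := by
    intro x hx y hy
    obtain ⟨z, hz, rfl⟩ := (hOmem y).mp hy
    exact (hOmem _).mpr ⟨x * z, mul_mem hx hz, mul_smul _ _ _⟩
  by_cases hOY : O = Y
  swap
  · -- two invariant pieces
    have hsub : O ⊆ Y := Finset.filter_subset _ _
    have hlt : O.card < n := hn ▸ Finset.card_lt_card (Finset.ssubset_iff_subset_ne.mpr ⟨hsub, hOY⟩)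
    have hy0O : y₀ ∈ O := (hOmem _).mpr ⟨1, one_mem M, one_smul _ _⟩
    have hlt' : (Y \ O).card < n := hn ▸ Finset.card_lt_card
      (Finset.ssubset_iff_subset_ne.mpr ⟨Finset.sdiff_subset, fun h =>
        (Finset.mem_sdiff.mp (h.symm ▸ hy₀ : y₀ ∈ Y \ O)).2 hy0O⟩)
    obtain ⟨S₁, hS₁, h₁⟩ := ih _ hlt M O rfl hOinv
    obtain ⟨S₂, hS₂, h₂⟩ := ih _ hlt' M (Y \ O) rfl (by
      intro x hx y hy
      rw [Finset.mem_sdiff] at hy ⊢
      refine ⟨hY x hx y hy.1, fun h => hy.2 ?_⟩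
      have := hOinv _ (inv_mem hx) _ h
      rwa [inv_smul_smul] at this)
    refine ⟨S₁ ∪ S₂, Finset.union_subset (hS₁.trans hsub) (hS₂.trans Finset.sdiff_subset), ?_⟩
    intro x hx hfix y hy
    have hxO : ∀ z, z ∈ O → x • z ∈ O := hOinv x hx
    by_cases hyO : y ∈ O
    · refine h₁ x hx (fun z hz => ?_) y hyO
      have h := hfix z (hsub hz)
      have e1 : z ∈ S₂ ↔ False := iff_false_intro fun h' => (Finset.mem_sdiff.mp (hS₂ h')).2 hz
      have e2 : x • z ∈ S₂ ↔ False :=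
        iff_false_intro fun h' => (Finset.mem_sdiff.mp (hS₂ h')).2 (hxO z hz)
      simpa only [Finset.mem_union, e1, e2, or_false] using h
    · refine h₂ x hx (fun z hz => ?_) y (Finset.mem_sdiff.mpr ⟨hy, hyO⟩)
      have hzO : z ∉ O := (Finset.mem_sdiff.mp hz).2
      have hxzO : x • z ∉ O := fun h' => hzO (by
        have := hOinv _ (inv_mem hx) _ h'
        rwa [inv_smul_smul] at this)
      have h := hfix z (Finset.mem_sdiff.mp hz).1
      have e1 : z ∈ S₁ ↔ False := iff_false_intro fun h' => hzO (hS₁ h')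
      have e2 : x • z ∈ S₁ ↔ False := iff_false_intro fun h' => hxzO (hS₁ h')
      simpa only [Finset.mem_union, e1, e2, false_or] using h
  -- transitive
  have htrans : ∀ y ∈ Y, ∃ x ∈ M, x • y₀ = y := fun y hy => (hOmem y).mp (hOY.symm ▸ hy)
  set T : Subgroup ↥M := (MulAction.stabilizer P y₀).subgroupOf M with hTdef
  have hTmem : ∀ x : ↥M, x ∈ T ↔ (x : P) • y₀ = y₀ := fun x => Iff.rfl
  by_cases hT : T = ⊤
  · refine ⟨∅, Finset.empty_subset _, fun x _ _ y hy => ?_⟩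
    have hall : ∀ z ∈ Y, z = y₀ := by
      intro z hz
      obtain ⟨w, hw, rfl⟩ := htrans z hz
      exact (hTmem ⟨w, hw⟩).mp (hT.symm ▸ Subgroup.mem_top _)
    rw [hall _ (hY x ‹_› y hy), hall y hy]
  obtain ⟨K, hK, hTK⟩ := (eq_top_or_exists_le_coatom T).resolve_left hT
  haveI : Group.IsNilpotent ↥M := (hP.to_subgroup M).isNilpotent
  haveI hKn : K.Normal :=
    Subgroup.NormalizerCondition.normal_of_coatom _ Group.normalizerCondition_of_isNilpotent hK
  set B := Y.filter (fun y => ∃ x : ↥M, x ∈ K ∧ (x : P) • y₀ = y) with hBdef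
  have hBmem : ∀ x : ↥M, (x : P) • y₀ ∈ B ↔ x ∈ K := by
    intro x
    rw [hBdef, Finset.mem_filter]
    refine ⟨?_, fun h => ⟨hY x x.2 y₀ hy₀, x, h, rfl⟩⟩
    rintro ⟨-, k, hk, hkx⟩
    have h1 : k⁻¹ * x ∈ K := hTK ((hTmem _).mpr (by
      rw [Subgroup.coe_mul, Subgroup.coe_inv, mul_smul, ← hkx, inv_smul_smul]))
    simpa using K.mul_mem hk h1
  have hBinv : ∀ k : ↥M, k ∈ K → ∀ y ∈ B, (k : P) • y ∈ B := by
    intro k hk y hy
    obtain ⟨hyY, j, hj, rfl⟩ := Finset.mem_filter.mp hy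
    rw [← mul_smul, ← Subgroup.coe_mul]
    exact (hBmem _).mpr (K.mul_mem hk hj)
  obtain ⟨x₁, hx₁⟩ : ∃ x : ↥M, x ∉ K := by
    by_contra h
    push Not at h
    exact hK.1 (eq_top_iff.mpr fun x _ => h x)
  have hBlt : B.card < n := hn ▸ Finset.card_lt_card (Finset.ssubset_iff_subset_ne.mpr
    ⟨Finset.filter_subset _ _, fun h => hx₁ ((hBmem x₁).mp (h.symm ▸ hY x₁ x₁.2 y₀ hy₀))⟩)
  obtain ⟨S₀, hS₀, hS₀fix⟩ := ih _ hBlt (K.map M.subtype) B rfl (by
    rintro _ ⟨k, hk, rfl⟩ y hy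
    exact hBinv k hk y hy)
  let r : ↥M → ↥M := fun x => (QuotientGroup.mk x : ↥M ⧸ K).out
  have hr : ∀ x, (r x)⁻¹ * x ∈ K := fun x => QuotientGroup.eq.mp (QuotientGroup.out_eq' _)
  have hrc : ∀ x y : ↥M, x⁻¹ * y ∈ K → r x = r y := fun x y h =>
    congrArg Quotient.out (QuotientGroup.eq.mpr h)
  let cond : ↥M → Prop := fun x =>
    if x ∈ K then (x : P) • y₀ ∉ S₀ else (((r x)⁻¹ * x : ↥M) : P) • y₀ ∈ S₀
  let S := Y.filter (fun y => ∃ x : ↥M, (x : P) • y₀ = y ∧ cond x)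
  have hS : ∀ x : ↥M, (x : P) • y₀ ∈ S ↔ cond x := by
    intro x
    simp only [S, Finset.mem_filter]
    refine ⟨?_, fun h => ⟨hY x x.2 y₀ hy₀, x, rfl, h⟩⟩
    rintro ⟨-, z, hz, hc⟩
    have hzx : z⁻¹ * x ∈ K := hTK ((hTmem _).mpr (by
      rw [Subgroup.coe_mul, Subgroup.coe_inv, mul_smul, ← hz, inv_smul_smul]))
    by_cases hxK : x ∈ K
    · have hzK : z ∈ K := by
        have := K.mul_mem hxK (K.inv_mem hzx)
        simpa using this
      simp only [cond, if_pos hzK] at hc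
      simp only [cond, if_pos hxK, ← hz]
      exact hc
    · have hzK : z ∉ K := fun h => hxK (by simpa using K.mul_mem h hzx)
      simp only [cond, if_neg hzK] at hc
      simp only [cond, if_neg hxK, Subgroup.coe_mul, mul_smul, ← hz, ← hrc z x hzx]
      simpa only [Subgroup.coe_mul, mul_smul] using hc
  refine ⟨S, Finset.filter_subset _ _, fun x hx hfix => ?_⟩
  set x' : ↥M := ⟨x, hx⟩
  have hkey : ∀ z : ↥M, cond (x' * z) ↔ cond z := fun z => by
    rw [← hS, ← hS, Subgroup.coe_mul, mul_smul]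
    exact hfix _ (hY z z.2 y₀ hy₀)
  have hxK : x' ∈ K := by
    by_contra hxK
    set h := (r x')⁻¹ * x' with hhdef
    have hh : h ∈ K := hr x'
    have hflip : ∀ y ∈ B, ((h : P) • y ∈ S₀ ↔ y ∉ S₀) := by
      intro y hy
      obtain ⟨-, k, hk, rfl⟩ := Finset.mem_filter.mp hy
      have h1 := hkey k
      have hxk : x' * k ∉ K := fun h' => hxK (by simpa using K.mul_mem h' (K.inv_mem hk))
      simp only [cond, if_neg hxk, if_pos hk] at h1
      rw [← hrc x' (x' * k) (by simpa using hk), ← mul_assoc, ← hhdef] at h1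
      rwa [← mul_smul, ← Subgroup.coe_mul]
    have h2 : ∀ y ∈ B, ((h * h : ↥M) : P) • y = y := by
      refine hS₀fix _ ⟨h * h, K.mul_mem hh hh, rfl⟩ fun y hy => ?_
      rw [Subgroup.coe_mul, mul_smul, hflip _ (hBinv h hh y hy), hflip y hy, not_not]
    have hy0B : y₀ ∈ B := by simpa using (hBmem 1).mpr K.one_mem
    have hodd : ∃ j, (h : P) ^ (2 * j + 1) = 1 := by
      obtain ⟨k, hk⟩ := hP (h : P)
      obtain ⟨j, hj⟩ := ((hp.out.odd_of_ne_two hp2).pow (n := k))
      exact ⟨j, hj ▸ hk⟩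
    obtain ⟨j, hj⟩ := hodd
    have hpow : ∀ i, (h : P) ^ (2 * i) • y₀ = y₀ := by
      intro i
      induction i with
      | zero => simp
      | succ i ihi =>
        rw [show 2 * (i + 1) = 2 * i + 2 by ring, pow_add, mul_smul, sq, ← Subgroup.coe_mul,
          h2 y₀ hy0B, ihi]
    have hhy : (h : P) • y₀ = y₀ := by
      conv_lhs => rw [← hpow j, ← mul_smul, ← pow_succ', hj, one_smul]
    have := hflip y₀ hy0B
    rw [hhy] at this
    exact iff_not_self this
  intro y hy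
  obtain ⟨w, hw, rfl⟩ := htrans y hy
  set z : ↥M := ⟨w, hw⟩
  by_cases hzK : z ∈ K
  · refine hS₀fix x ⟨x', hxK, rfl⟩ (fun y hy => ?_) _ ((hBmem z).mpr hzK)
    obtain ⟨-, k, hk, rfl⟩ := Finset.mem_filter.mp hy
    have h1 := hkey k
    simp only [cond, if_pos hk, if_pos (K.mul_mem hxK hk), not_iff_not] at h1
    rwa [Subgroup.coe_mul, mul_smul] at h1
  · set g := r z with hg
    set c := g⁻¹ * x' * g with hc
    have hcK : c ∈ K := by
      have := hKn.conj_mem x' hxK g⁻¹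
      rwa [inv_inv] at this
    have hgK : g ∉ K := fun h => hzK (by
      have h2 := hr z
      rw [← hg] at h2
      simpa using K.mul_mem h h2)
    have hcfix := hS₀fix (c : P) ⟨c, hcK, rfl⟩ (fun y hy => ?_) _ ((hBmem _).mpr (hr z))
    · rw [← hg] at hcfix
      simp only [hc, Subgroup.coe_mul, Subgroup.coe_inv, mul_smul, smul_inv_smul,
        inv_smul_eq_iff] at hcfix
      exact hcfix
    · obtain ⟨-, k, hk, rfl⟩ := Finset.mem_filter.mp hy
      have hz1 : g * k ∉ K := fun h => hgK (by simpa using K.mul_mem h (K.inv_mem hk))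
      have hz2 : x' * (g * k) ∉ K := fun h => hz1 (by
        simpa [mul_assoc] using K.mul_mem (K.inv_mem hxK) h)
      have e1 : r (g * k) = g := (hrc (g * k) z (by
        rw [mul_inv_rev, mul_assoc]
        exact K.mul_mem (K.inv_mem hk) (hr z))).trans hg.symm
      have e2 : r (x' * (g * k)) = g := by
        rw [← hrc (g * k) (x' * (g * k)) ?_, e1]
        rw [show (g * k)⁻¹ * (x' * (g * k)) = k⁻¹ * c * k by rw [hc]; group]
        exact K.mul_mem (K.mul_mem (K.inv_mem hk) hcK) hk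
      have h1 := hkey (g * k)
      simp only [cond, if_neg hz1, if_neg hz2, e1, e2] at h1
      rw [show g⁻¹ * (x' * (g * k)) = c * k by rw [hc]; group, inv_mul_cancel_left] at h1
      rwa [Subgroup.coe_mul, mul_smul] at h1

end Cfsg.Agent.RegOrbit23
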